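import Mathlib
import Cfsg.Agent.Chars.Sums
import Cfsg.Agent.Chars.Values
import Cfsg.Agent.Chars.Construct

/-!
# Powers of central characters summed against the degrees, and multiplicities on a subgroup
-/

set_option autoImplicit false
set_option linter.unusedSectionVars false

namespace Cfsg.Lib.Blocks.BrauerTuan

open Cfsg.Lib.Chars
open scoped ComplexConjugate _root_.Classical

universe u

variable {G : Type u} [Group G] [Fintype G]

/-- A character takes integer values at elements with square one. -/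
theorem exists_int_apply_sq_one {χ : G → ℂ} (hχ : Cfsg.IsCharacter G χ) {z : G}
    (hz : z * z = 1) : ∃ m : ℤ, χ z = (m : ℂ) := by
  obtain ⟨n, ρ, rfl⟩ := hχ
  have h : (eigs ρ z).sum ∈ (Int.castRingHom ℂ).range := by
    refine multiset_sum_mem _ fun w hw => ?_
    have h1 := pow_eq_one_of_mem_eigs ρ (m := 2) (by rw [pow_two, hz]) hw
    rcases sq_eq_one_iff.1 h1 with e | e
    · exact ⟨1, by simp [e]⟩
    · exact ⟨-1, by simp [e]⟩
  obtain ⟨m, hm⟩ := h
  exact ⟨m, by rw [character_eq_sum_eigs, ← hm]; rfl⟩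

/-- The central character at an element with square one is an integer. -/
theorem exists_int_central (χ : Cfsg.IrrCharacter G) {z : G} (hz : z * z = 1) :
    ∃ w m : ℤ, (χ : G → ℂ) z = (m : ℂ) ∧
      (Nat.card {x : G // IsConj z x} : ℤ) * m = (deg (χ : G → ℂ) : ℤ) * w ∧
      (Nat.card {x : G // IsConj z x} : ℂ) * (χ : G → ℂ) z / (χ : G → ℂ) 1 = (w : ℂ) := by
  obtain ⟨m, hm⟩ := exists_int_apply_sq_one (isCharacter_of_irr χ.2) hz
  have h := isIntegral_centralChar_irr χ.2 z
  rw [hm, irr_apply_one_eq_deg] at h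
  obtain ⟨w, hw⟩ := int_of_isIntegral_rat
    (q := (Nat.card {x : G // IsConj z x} : ℚ) * m / (deg (χ : G → ℂ) : ℚ)) (by push_cast; exact h)
  have hd : (deg (χ : G → ℂ) : ℚ) ≠ 0 := Nat.cast_ne_zero.2 (deg_irr_pos χ).ne'
  refine ⟨w, m, hm, ?_, ?_⟩
  · rw [div_eq_iff hd] at hw
    have h2 : ((Nat.card {x : G // IsConj z x} : ℤ) * m : ℤ) = w * (deg (χ : G → ℂ) : ℤ) := by
      exact_mod_cast hw
    rw [h2, mul_comm]
  · rw [hm, irr_apply_one_eq_deg]
    have := congrArg (fun q : ℚ => (q : ℂ)) hw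
    push_cast at this
    exact this

/-- The sums of the powers of the central characters are multiples of the group order. -/
theorem exists_central_sum (z : G) (k : ℕ) : ∀ g : G, ∃ c : ℤ,
    ∑ χ : Cfsg.IrrCharacter G, (χ : G → ℂ) 1 *
      ((Nat.card {x : G // IsConj z x} : ℂ) * (χ : G → ℂ) z / (χ : G → ℂ) 1) ^ k * (χ : G → ℂ) g =
    (Nat.card G : ℂ) * (c : ℂ) := by
  induction k with
  | zero =>
    intro g
    refine ⟨if g = 1 then 1 else 0, ?_⟩
    simp only [pow_zero, mul_one]
    rw [sum_deg_mul]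
    split_ifs <;> simp
  | succ k ih =>
    intro g
    choose c hc using ih
    refine ⟨∑ x ∈ Finset.univ.filter (IsConj z), c (x * g), ?_⟩
    push_cast
    rw [Finset.mul_sum, Finset.sum_congr rfl fun x _ => (hc (x * g)).symm, Finset.sum_comm]
    refine Finset.sum_congr rfl fun χ _ => ?_
    rw [← Finset.mul_sum]
    have h1 := sum_class_products χ.2 z 1 g
    rw [show Finset.univ.filter (IsConj (1 : G)) = {1} by
        ext w
        simp only [Finset.mem_filter, Finset.mem_univ, true_and, Finset.mem_singleton]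
        exact isConj_one_right] at h1
    simp only [Finset.sum_singleton, mul_one] at h1
    have h2 : Nat.card {x : G // IsConj 1 x} = 1 := by
      refine Nat.card_eq_one_iff_exists.2 ⟨⟨1, IsConj.refl 1⟩, fun x => Subtype.ext ?_⟩
      exact isConj_one_right.1 x.2
    rw [h1, h2]
    have h0 := IsIrrCharacter.apply_one_ne_zero χ.2
    rw [Nat.cast_one, pow_succ]
    generalize ((Nat.card {x : G // IsConj z x} : ℂ) * (χ : G → ℂ) z / (χ : G → ℂ) 1) ^ k = a
    field_simp

/-- The multiplicity of the principal character in the restriction to a subgroup. -/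
theorem exists_mult_one (S : Subgroup G) {χ : G → ℂ} (hχ : Cfsg.IsCharacter G χ) :
    ∃ m : ℕ, ∑ s : S, χ s = (Nat.card S : ℂ) * (m : ℂ) := by
  obtain ⟨m, hm⟩ := IsCharacter.exists_mult (IsCharacter.comp_hom hχ S.subtype)
    (χ := fun _ => 1) isIrrCharacter_one
  refine ⟨m, ?_⟩
  rw [classInner_def, inv_mul_eq_iff_eq_mul₀ (by exact_mod_cast Nat.card_pos.ne')] at hm
  simp only [map_one, mul_one] at hm
  exact hm

/-- The multiplicities against the values at an element outside the conjugates of the subgroup. -/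
theorem sum_mult_mul (S : Subgroup G) (m : Cfsg.IrrCharacter G → ℕ)
    (hm : ∀ χ : Cfsg.IrrCharacter G, ∑ s : S, (χ : G → ℂ) s = (Nat.card S : ℂ) * (m χ : ℂ))
    {y : G} (hy : ∀ s : S, ¬ IsConj (s : G) y) :
    ∑ χ : Cfsg.IrrCharacter G, (m χ : ℂ) * conj ((χ : G → ℂ) y) = 0 := by
  have h0 : (Nat.card S : ℂ) ≠ 0 := by exact_mod_cast Nat.card_pos.ne'
  have h : ∑ χ : Cfsg.IrrCharacter G, (∑ s : S, (χ : G → ℂ) s) * conj ((χ : G → ℂ) y) = 0 := by
    simp only [Finset.sum_mul]
    rw [Finset.sum_comm]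
    exact Finset.sum_eq_zero fun s _ => by rw [second_orthogonality, if_neg (hy s)]
  simp only [hm, mul_assoc] at h
  rw [← Finset.mul_sum] at h
  exact (mul_eq_zero.1 h).resolve_left h0

/-- The multiplicities against the degrees give the index. -/
theorem sum_mult_deg (S : Subgroup G) (m : Cfsg.IrrCharacter G → ℕ)
    (hm : ∀ χ : Cfsg.IrrCharacter G, ∑ s : S, (χ : G → ℂ) s = (Nat.card S : ℂ) * (m χ : ℂ)) :
    ∑ χ : Cfsg.IrrCharacter G, m χ * deg (χ : G → ℂ) = S.index := by
  have h0 : (Nat.card S : ℂ) ≠ 0 := by exact_mod_cast Nat.card_pos.ne'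
  have h : ∑ χ : Cfsg.IrrCharacter G, (∑ s : S, (χ : G → ℂ) s) * (χ : G → ℂ) 1 =
      (Nat.card S : ℂ) * (S.index : ℂ) := by
    simp only [Finset.sum_mul]
    rw [Finset.sum_comm, Finset.sum_congr rfl fun (s : S) _ => show
      ∑ χ : Cfsg.IrrCharacter G, (χ : G → ℂ) (s : G) * (χ : G → ℂ) 1 =
        if (s : G) = 1 then (Nat.card G : ℂ) else 0 by
      rw [← sum_deg_mul]
      exact Finset.sum_congr rfl fun χ _ => mul_comm _ _]
    refine (Finset.sum_eq_single (1 : S) (fun s _ hs => if_neg fun e => hs (Subtype.ext e))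
      (fun h => absurd (Finset.mem_univ _) h)).trans ?_
    rw [if_pos rfl, ← S.card_mul_index]
    push_cast
    rfl
  simp only [hm, mul_assoc] at h
  rw [← Finset.mul_sum] at h
  have h1 := mul_left_cancel₀ h0 h
  simp only [irr_apply_one_eq_deg] at h1
  exact_mod_cast h1

end Cfsg.Lib.Blocks.BrauerTuan
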