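import Mathlib

/-!
# Residues modulo a Fermat prime
-/

set_option autoImplicit false

namespace Cfsg.Lib.Blocks.BrauerTuan

/-- The small odd multiples of small powers of two congruent to `±1` modulo `2 ^ L + 1`. -/
lemma residue {L r g : ℕ} {ε : ℤ} (hL : 3 ≤ L) (hr : r < L) (hg : 2 * g ≤ 2 ^ L + 2) (hodd : Odd g)
    (hε : ε = 1 ∨ ε = -1) (h : (2 ^ L + 1 : ℤ) ∣ (g : ℤ) * 2 ^ r - ε) :
    ε = 1 ∧ ((r = 0 ∧ g = 1) ∨ (r = 1 ∧ g = 2 ^ (L - 1) + 1)) := by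
  obtain ⟨m, hm⟩ := h
  obtain ⟨s, hs, hs0⟩ : ∃ s, L = r + s ∧ 0 < s := ⟨L - r, by omega, by omega⟩
  have hB2 : Even ((2 : ℤ) ^ s) := Even.pow_of_ne_zero even_two hs0.ne'
  have hA1 : (1 : ℤ) ≤ 2 ^ r := one_le_pow₀ (by norm_num)
  have hB : (2 : ℤ) ≤ 2 ^ s := le_self_pow₀ (by norm_num) hs0.ne'
  have hg' : 2 * (g : ℤ) ≤ 2 ^ r * 2 ^ s + 2 := by
    rw [← pow_add, ← hs]
    exact_mod_cast hg
  have hg1 : (1 : ℤ) ≤ g := by exact_mod_cast hodd.pos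
  have hgo : ¬ Even (g : ℤ) := by
    rw [Int.even_coe_nat]
    exact Nat.not_even_iff_odd.2 hodd
  have h8 : (8 : ℤ) ≤ 2 ^ r * 2 ^ s := by
    rw [← pow_add, ← hs]
    calc (8 : ℤ) = 2 ^ 3 := by norm_num
      _ ≤ 2 ^ L := pow_le_pow_right₀ (by norm_num) hL
  rw [hs, pow_add] at hm
  rw [show L - 1 = r + s - 1 by omega]
  obtain ⟨A, hA⟩ : ∃ A : ℤ, A = 2 ^ r := ⟨_, rfl⟩
  obtain ⟨B, hBd⟩ : ∃ B : ℤ, B = 2 ^ s := ⟨_, rfl⟩
  rw [← hA, ← hBd] at hm hg' h8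
  rw [← hA] at hA1
  rw [← hBd] at hB hB2
  have hm0 : 0 ≤ m := by
    by_contra hlt
    have : m ≤ -1 := by omega
    rcases hε with rfl | rfl <;> nlinarith
  have hmA : m < A := by
    by_contra hge
    have h1 : A * (A * B + 1) ≤ (A * B + 1) * m := by
      rw [mul_comm A]
      exact mul_le_mul_of_nonneg_left (not_lt.1 hge) (by nlinarith)
    rcases hε with rfl | rfl <;> nlinarith
  rcases Nat.eq_zero_or_pos r with rfl | hr0
  · rw [pow_zero] at hA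
    subst hA
    obtain rfl : m = 0 := by omega
    rcases hε with rfl | rfl
    · exact ⟨rfl, Or.inl ⟨rfl, by omega⟩⟩
    · omega
  have hA2 : (2 : ℤ) ≤ A := hA ▸ le_self_pow₀ (by norm_num) hr0.ne'
  have hdvd : A ∣ m + ε := ⟨(g : ℤ) - B * m, by linear_combination -hm⟩
  obtain ⟨k, hk⟩ := hdvd
  have hk0 : 0 ≤ k := by
    by_contra hlt
    have : A * k ≤ A * (-1) := mul_le_mul_of_nonneg_left (by omega) (by omega)
    rcases hε with rfl | rfl <;> omega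
  have hk1 : k ≤ 1 := by
    by_contra hlt
    have : A * 2 ≤ A * k := mul_le_mul_of_nonneg_left (by omega) (by omega)
    rcases hε with rfl | rfl <;> omega
  obtain rfl | rfl : k = 0 ∨ k = 1 := by omega
  · rw [mul_zero] at hk
    rcases hε with rfl | rfl
    · omega
    obtain rfl : m = 1 := by omega
    exfalso
    refine hgo ?_
    have : (g : ℤ) = B := mul_left_cancel₀ (show A ≠ 0 by omega) (by linear_combination hm)
    rwa [this]
  · rw [mul_one] at hk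
    rcases hε with rfl | rfl
    swap
    · omega
    refine ⟨rfl, Or.inr ?_⟩
    have h1 : m = A - 1 := by omega
    have h2 : (g : ℤ) = (A - 1) * B + 1 :=
      mul_left_cancel₀ (show A ≠ 0 by omega) (by rw [h1] at hm; linear_combination hm)
    have h3 : A = 2 := by nlinarith
    have hr1 : r = 1 := by
      refine Nat.pow_right_injective (le_refl 2) ?_
      show 2 ^ r = 2 ^ 1
      have : ((2 ^ r : ℕ) : ℤ) = ((2 ^ 1 : ℕ) : ℤ) := by push_cast; rw [← hA, h3]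
      exact_mod_cast this
    refine ⟨hr1, ?_⟩
    subst hr1
    rw [show 1 + s - 1 = s by omega]
    rw [h3] at h2
    have : (g : ℤ) = ((2 ^ s + 1 : ℕ) : ℤ) := by push_cast; rw [← hBd, h2]; ring
    exact_mod_cast this

/-- The relevant degrees in the principal block. -/
lemma classify {L i g : ℕ} {ε : ℤ} (hL : 3 ≤ L) (hi0 : 0 < i) (hi : i < 2 * L)
    (hg : 2 * g ≤ 2 ^ L + 2) (hodd : Odd g) (hε : ε = 1 ∨ ε = -1)
    (h : (2 ^ L + 1 : ℤ) ∣ (2 : ℤ) ^ i * g - ε) :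
    (i = L ∧ g = 1 ∧ ε = -1) ∨ (i = 1 ∧ g = 2 ^ (L - 1) + 1 ∧ ε = 1) ∨
      (i = L + 1 ∧ g = 2 ^ (L - 1) + 1 ∧ ε = -1) := by
  rcases Nat.lt_or_ge i L with hlt | hge
  · obtain ⟨he, ⟨hr, -⟩ | ⟨hr, hg'⟩⟩ := residue hL hlt hg hodd hε (by rwa [mul_comm (g : ℤ)])
    · omega
    · exact Or.inr (Or.inl ⟨hr, hg', he⟩)
  · obtain ⟨r, rfl⟩ := Nat.exists_eq_add_of_le hge
    have h1 : (2 ^ L + 1 : ℤ) ∣ (g : ℤ) * 2 ^ r - (-ε) := by
      have e : (g : ℤ) * 2 ^ r - (-ε) =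
          (2 ^ L + 1) * ((g : ℤ) * 2 ^ r) - ((2 : ℤ) ^ (L + r) * g - ε) := by
        rw [pow_add]
        ring
      rw [e]
      exact dvd_sub (dvd_mul_right _ _) h
    obtain ⟨he, ⟨hr, hg'⟩ | ⟨hr, hg'⟩⟩ := residue hL (by omega) hg hodd
      (by rcases hε with rfl | rfl <;> norm_num) h1
    · exact Or.inl ⟨by omega, hg', by omega⟩
    · exact Or.inr (Or.inr ⟨by omega, hg', by omega⟩)

/-- Few terms cannot cancel modulo `2 ^ (2 L)`. -/
lemma count_zero {L a c a3 n : ℕ} (hn : a + c + a3 ≤ n) (h2n : 2 * n < 2 ^ L)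
    (h : (2 : ℤ) ^ (2 * L) ∣
      -(2 ^ L * (a : ℤ)) + (2 ^ L + 2) * (c : ℤ) - 2 ^ L * (2 ^ L + 2) * (a3 : ℤ)) : a = 0 := by
  obtain ⟨w, hw⟩ := h
  rw [show 2 * L = L + L by omega, pow_add] at hw
  obtain ⟨P, hP⟩ : ∃ P : ℕ, P = 2 ^ L := ⟨_, rfl⟩
  have hP' : (2 : ℤ) ^ L = (P : ℤ) := by rw [hP]; push_cast; rfl
  rw [hP'] at hw
  rw [← hP] at h2n
  have h1 : (P : ℤ) ∣ ((2 * c : ℕ) : ℤ) :=
    ⟨(P : ℤ) * w + a - c + ((P : ℤ) + 2) * a3, by push_cast; linear_combination hw⟩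
  have hc : c = 0 := by
    have := Nat.eq_zero_of_dvd_of_lt (Int.natCast_dvd_natCast.1 h1) (by omega)
    omega
  subst hc
  have h2 : (P : ℤ) ∣ ((a + 2 * a3 : ℕ) : ℤ) := by
    refine ⟨-w - a3, ?_⟩
    push_cast
    refine mul_left_cancel₀ (show (P : ℤ) ≠ 0 by omega) ?_
    push_cast at hw
    linear_combination -hw
  have := Nat.eq_zero_of_dvd_of_lt (Int.natCast_dvd_natCast.1 h2) (by omega)
  omega

end Cfsg.Lib.Blocks.BrauerTuan
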