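import Mathlib
import Cfsg.Agent.Blocks.SylowCount.Main
import Cfsg.Agent.Blocks.BrauerTuan.CentralSum

/-!
# The principal block of a group of order `p qᵇ g₀`
-/

set_option autoImplicit false
set_option linter.unusedSectionVars false

namespace Cfsg.Lib.Blocks.BrauerTuan

open Cfsg.Lib.Chars SmallOrder SylowCount
open scoped ComplexConjugate _root_.Classical

universe u

variable {G : Type u} [Group G] [Fintype G] {p : ℕ} [Fact p.Prime] {M : Ideal AlgInt}
  {C : Cyc G p} {ν : (ZMod p)ˣ → IrrCharacter G} {δ : ℤ}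

/-- The hypotheses on the order. -/
structure Ord (C : Cyc G p) (q b g₀ : ℕ) : Prop where
  core : Core C
  prime : q.Prime
  ne : p ≠ q
  card : Nat.card G = p * q ^ b * g₀
  lt : g₀ + 1 < p

section

variable {q b g₀ : ℕ} (hO : Ord C q b g₀)
include hO

theorem g_pos : 0 < g₀ := by
  rcases Nat.eq_zero_or_pos g₀ with h | h
  · have h1 := hO.card
    rw [h, mul_zero] at h1
    exact absurd h1 Nat.card_pos.ne'
  · exact h

theorem dvd_g {x : ℕ} (hx : x ∣ Nat.card G) (hp : ¬ p ∣ x) (hq : ¬ q ∣ x) : x ∣ g₀ := by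
  rw [hO.card] at hx
  refine Nat.Coprime.dvd_of_dvd_mul_left (Nat.Coprime.mul_right ?_ ?_) hx
  · exact ((Fact.out : p.Prime).coprime_iff_not_dvd.2 hp).symm
  · exact ((hO.prime.coprime_iff_not_dvd.2 hq).symm).pow_right _

theorem eC_lt : eC C < p := by
  have := (Fact.out : p.Prime).two_le
  have := Nat.le_of_dvd (by omega) (eC_dvd C)
  omega

/-- The nontrivial ordinary degrees are divisible by `q`. -/
theorem dvd_ord_deg (hM : IsPModular p M) (hD : C.OrbitData C.oneV ν δ) {χ : IrrCharacter G}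
    (hχ : χ ∈ ordSet C ν) (hne : χ ≠ oneG G) : q ∣ deg (χ : G → ℂ) := by
  obtain ⟨hl, hr⟩ := mem_ordSet.1 hχ
  have hx0 := deg_irr_pos χ
  have hp2 := (Fact.out : p.Prime).two_le
  have hcong := congr_ord hM hD hr hl
  by_contra hq
  have hp : ¬ p ∣ deg (χ : G → ℂ) := fun h => by
    rcases hD.sign_diff (χ := χ) ⟨hl, hr⟩ with e | e <;> rw [e] at hcong
    · have h1 := dvd_sub (Int.natCast_dvd_natCast.2 h) hcong
      rw [sub_sub_cancel] at h1
      have := Int.le_of_dvd one_pos h1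
      omega
    · have h1 := dvd_sub hcong (Int.natCast_dvd_natCast.2 h)
      rw [show ((deg (χ : G → ℂ) : ℤ) - -1) - (deg (χ : G → ℂ) : ℤ) = 1 by ring] at h1
      have := Int.le_of_dvd one_pos h1
      omega
  have hle := Nat.le_of_dvd (g_pos hO) (dvd_g hO (IsIrrCharacter.deg_dvd χ.2) hp hq)
  have := hO.lt
  rcases hD.sign_diff (χ := χ) ⟨hl, hr⟩ with e | e <;> rw [e] at hcong
  · obtain ⟨k, hk⟩ := hcong
    rcases lt_trichotomy k 0 with hk0 | hk0 | hk0
    · have : (p : ℤ) * k ≤ (p : ℤ) * (-1) := mul_le_mul_of_nonneg_left (by omega) (by omega)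
      omega
    · subst hk0
      exact hne (eq_one_of_deg_one hO.core.perfect (by omega))
    · have : (p : ℤ) * 1 ≤ (p : ℤ) * k := mul_le_mul_of_nonneg_left (by omega) (by omega)
      omega
  · have := Int.le_of_dvd (by omega) hcong
    omega

/-- The exceptional degree is small and prime to `q`. -/
theorem exc_small (hM : IsPModular p M) (hD : C.OrbitData C.oneV ν δ) :
    2 ≤ deg (ν 1 : G → ℂ) ∧ deg (ν 1 : G → ℂ) ∣ g₀ ∧ ¬ q ∣ deg (ν 1 : G → ℂ) := by
  have hp2 := (Fact.out : p.Prime).two_le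
  have hrel := relation hD
  have hone : oneG G ∈ Set.range ν → deg (ν 1 : G → ℂ) = 1 := by
    rintro ⟨u, hu⟩
    rw [← deg_exc hD u, hu, deg_oneG]
  have hq1 : ¬ (q : ℤ) ∣ 1 := fun h => by
    have := Int.le_of_dvd one_pos h
    have := hO.prime.two_le
    omega
  have hq : ¬ q ∣ deg (ν 1 : G → ℂ) := by
    intro h
    have hnr : oneG G ∉ Set.range ν := fun e => by
      rw [hone e] at h
      exact hO.prime.ne_one (Nat.dvd_one.1 h)
    have hm : oneG G ∈ ordSet C ν := mem_ordSet.2 ⟨lies_oneG, hnr⟩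
    rw [← Finset.add_sum_erase _ _ hm, bI_oneG' hM hD hnr, deg_oneG] at hrel
    refine hq1 ?_
    have h1 : (q : ℤ) ∣ δ * (deg (ν 1 : G → ℂ) : ℤ) -
        ∑ χ ∈ (ordSet C ν).erase (oneG G), C.bI χ C.oneV 1 * (deg (χ : G → ℂ) : ℤ) :=
      dvd_sub ((Int.natCast_dvd_natCast.2 h).mul_left δ) (Finset.dvd_sum fun χ hχ =>
        (Int.natCast_dvd_natCast.2 (dvd_ord_deg hO hM hD (Finset.mem_of_mem_erase hχ)
          (Finset.ne_of_mem_erase hχ))).mul_left _)
    rw [← hrel] at h1
    simpa using h1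
  refine ⟨?_, ?_, hq⟩
  · by_contra hlt
    have h1 : deg (ν 1 : G → ℂ) = 1 := by
      have := deg_irr_pos (ν 1)
      omega
    have hν : ν 1 = oneG G := eq_one_of_deg_one hO.core.perfect h1
    rw [h1, Nat.cast_one, mul_one] at hrel
    have h2 : (q : ℤ) ∣ δ := by
      rw [← hrel]
      exact Finset.dvd_sum fun χ hχ => (Int.natCast_dvd_natCast.2 (dvd_ord_deg hO hM hD hχ
        fun e => (mem_ordSet.1 hχ).2 ⟨1, by rw [e, hν]⟩)).mul_left _
    rcases hD.sign with e | e <;> rw [e] at h2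
    · exact hq1 h2
    · exact hq1 (dvd_neg.1 h2)
  · refine dvd_g hO (IsIrrCharacter.deg_dvd (ν 1).2) (fun h => ?_) hq
    have hcong := congr_exc hM hD
    have h1 : (p : ℤ) ∣ δ * (eC C : ℤ) := by
      have := dvd_sub (Int.natCast_dvd_natCast.2 h) hcong
      rwa [sub_sub_cancel] at this
    have h2 : p ∣ eC C := by
      rcases hD.sign with e | e <;> rw [e] at h1
      · rw [one_mul] at h1
        exact Int.natCast_dvd_natCast.1 h1
      · rw [neg_one_mul, dvd_neg] at h1
        exact Int.natCast_dvd_natCast.1 h1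
    have := Nat.le_of_dvd (Nat.pos_of_ne_zero (by have := hO.core.two_le_eC; omega)) h2
    have := eC_lt hO
    omega

/-- The exceptional characters are faithful and `V` is trivial. -/
theorem faithful (hM : IsPModular p M) (hD : C.OrbitData C.oneV ν δ) :
    (∀ g : G, (ν 1 : G → ℂ) g = (ν 1 : G → ℂ) 1 → g = 1) ∧ Nat.card C.V = 1 := by
  obtain ⟨hx2, hxg, -⟩ := exc_small hO hM hD
  have hxlt : deg (ν 1 : G → ℂ) < p := by
    have := Nat.le_of_dvd (g_pos hO) hxg
    have := hO.lt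
    omega
  have hp2 := (Fact.out : p.Prime).two_le
  have hχc := isCharacter_of_irr (ν 1).2
  have hker : kerSubgroup (ν 1 : G → ℂ) hχc = ⊥ := by
    by_contra hne'
    have hy : C.y ∈ kerSubgroup (ν 1 : G → ℂ) hχc := hO.core.core _ (kerSubgroup_normal _) hne'
    have h := sum_units_exc hM hD 1
    rw [Finset.sum_congr rfl fun (i : (ZMod p)ˣ) _ => show
        (ν 1 : G → ℂ) (C.yP (i : ZMod p)) = (deg (ν 1 : G → ℂ) : ℂ) by
      rw [← irr_apply_one_eq_deg]
      exact (mem_kerSubgroup _ _).1 (pow_mem hy _), Finset.sum_const, Finset.card_univ,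
      ZMod.card_units, nsmul_eq_mul] at h
    have h' : ((p - 1 : ℕ) : ℤ) * (deg (ν 1 : G → ℂ) : ℤ) = -(δ * (eC C : ℤ)) := by
      apply Int.cast_injective (α := ℂ)
      push_cast
      exact h
    have h1 : (p - 1) * 2 ≤ (p - 1) * deg (ν 1 : G → ℂ) := Nat.mul_le_mul_left _ hx2
    have := eC_lt hO
    rcases hD.sign with e | e <;> rw [e] at h' <;> zify at h1 <;> omega
  refine ⟨fun g hg => Subgroup.mem_bot.1 (hker ▸ (mem_kerSubgroup hχc g).2 hg), ?_⟩
  exact Nat.card_eq_one_iff_exists.2 ⟨1, fun v => Subtype.ext (Subtype.ext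
    (Subgroup.mem_bot.1 (hker ▸ (mem_kerSubgroup hχc _).2
      (apply_V_of_lies C hM (lies_exc hD 1) hxlt v))))⟩

end

/-- The remaining case, for `q = 2`. -/
structure Two (M : Ideal AlgInt) (C : Cyc G p) (ν : (ZMod p)ˣ → IrrCharacter G) (b c : ℕ) :
    Prop where
  modular : IsPModular p M
  core : Core C
  data : C.OrbitData C.oneV ν (-1)
  V_one : Nat.card C.V = 1
  deg_add : deg (ν 1 : G → ℂ) + eC C = p
  two_mul : 2 * eC C + 1 ≤ p
  eC_eq : eC C = 2 ^ c
  c_pos : 0 < c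
  odd : Odd (deg (ν 1 : G → ℂ))
  idx_mul : idx C * eC C = 2 ^ b * deg (ν 1 : G → ℂ)
  card : Nat.card G = p * 2 ^ b * deg (ν 1 : G → ℂ)
  two_dvd : ∀ χ ∈ ordSet C ν, χ ≠ oneG G → 2 ∣ deg (χ : G → ℂ)
  faithful : ∀ g : G, (ν 1 : G → ℂ) g = (ν 1 : G → ℂ) 1 → g = 1

/-- The reduction. -/
theorem reduce {q b g₀ : ℕ} (hO : Ord C q b g₀) (hM : IsPModular p M)
    (hD : C.OrbitData C.oneV ν δ) :
    (δ = 1 ∧ 2 * eC C + 1 = p ∧ g₀ = eC C ∧ deg (ν 1 : G → ℂ) = eC C ∧
      ∀ g : G, (ν 1 : G → ℂ) g = (ν 1 : G → ℂ) 1 → g = 1) ∨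
    (∃ c, δ = -1 ∧ q = 2 ∧ Two M C ν b c) := by
  obtain ⟨hx2, hxg, hxq⟩ := exc_small hO hM hD
  obtain ⟨hf, hV⟩ := faithful hO hM hD
  have hpr := (Fact.out : p.Prime)
  have he2 := hO.core.two_le_eC
  have hep := eC_lt hO
  have hxlt := Nat.le_of_dvd (g_pos hO) hxg
  have hglt := hO.lt
  have hcong := congr_exc hM hD
  obtain ⟨k, hk⟩ := eC_dvd C
  have hne1 : eC C ≠ p - 1 → 2 * eC C + 1 ≤ p := by
    intro hne
    have hk2 : 2 ≤ k := by
      by_contra hlt
      rcases Nat.eq_zero_or_pos k with h0 | h0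
      · rw [h0, mul_zero] at hk
        omega
      · rw [show k = 1 by omega, mul_one] at hk
        omega
    have : eC C * 2 ≤ eC C * k := Nat.mul_le_mul_left _ hk2
    omega
  obtain ⟨j, hj⟩ := hcong
  rcases hD.sign with rfl | rfl
  · left
    rw [one_mul] at hj
    have hj0 : j = 0 := by
      by_contra hne
      rcases lt_or_gt_of_ne hne with h | h
      · have : (p : ℤ) * j ≤ (p : ℤ) * (-1) := mul_le_mul_of_nonneg_left (by omega) (by omega)
        omega
      · have : (p : ℤ) * 1 ≤ (p : ℤ) * j := mul_le_mul_of_nonneg_left (by omega) (by omega)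
        omega
    rw [hj0, mul_zero] at hj
    have hx : deg (ν 1 : G → ℂ) = eC C := by omega
    have h2e := hne1 (by omega)
    have hlow := deg_bound_faithful C.dvd_card C.sq hO.core.no_normal_prime
      (isCharacter_of_irr (ν 1).2) hf
    refine ⟨rfl, by omega, ?_, hx, hf⟩
    rw [hx] at hxg hlow
    obtain ⟨m, hm⟩ := hxg
    have hg := g_pos hO
    have hm1 : m = 1 := by
      by_contra hne
      rcases Nat.eq_zero_or_pos m with h0 | h0
      · rw [h0, mul_zero] at hm; omega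
      · have : eC C * 2 ≤ eC C * m := Nat.mul_le_mul_left _ (by omega)
        omega
    rw [hm, hm1, mul_one]
  · right
    rw [neg_one_mul, sub_neg_eq_add] at hj
    have hj1 : j = 1 := by
      by_contra hne
      rcases lt_or_gt_of_ne hne with h | h
      · have : (p : ℤ) * j ≤ (p : ℤ) * 0 := mul_le_mul_of_nonneg_left (by omega) (by omega)
        omega
      · have : (p : ℤ) * 2 ≤ (p : ℤ) * j := mul_le_mul_of_nonneg_left (by omega) (by omega)
        omega
    rw [hj1, mul_one] at hj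
    have hd : deg (ν 1 : G → ℂ) + eC C = p := by omega
    have h2e := hne1 (by omega)
    have hg : g₀ = deg (ν 1 : G → ℂ) := by
      obtain ⟨m, hm⟩ := hxg
      have hgp := g_pos hO
      have hm1 : m = 1 := by
        by_contra hne
        rcases Nat.eq_zero_or_pos m with h0 | h0
        · rw [h0, mul_zero] at hm; omega
        · have : deg (ν 1 : G → ℂ) * 2 ≤ deg (ν 1 : G → ℂ) * m := Nat.mul_le_mul_left _ (by omega)
          omega
      rw [hm, hm1, mul_one]
    have hcard := hO.card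
    rw [hg] at hcard
    have hidx : idx C * eC C = q ^ b * deg (ν 1 : G → ℂ) := by
      refine Nat.eq_of_mul_eq_mul_left hpr.pos ?_
      rw [← mul_assoc p (q ^ b), ← hcard, card_eq C, hV]
      ring
    have hcop : (eC C).Coprime (deg (ν 1 : G → ℂ)) := by
      refine Nat.coprime_of_dvd fun l hl h1 h2 => ?_
      have := Nat.le_of_dvd (by omega) h1
      rcases (Nat.dvd_prime hpr).1 (hd ▸ dvd_add h2 h1) with e | e
      · exact hl.ne_one e
      · omega
    obtain ⟨c, -, hc⟩ := (Nat.dvd_prime_pow hO.prime).1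
      (hcop.dvd_of_dvd_mul_right (hidx ▸ dvd_mul_left _ _))
    have hc0 : 0 < c := Nat.pos_of_ne_zero fun e => by
      rw [e, pow_zero] at hc
      omega
    have hqe : q ∣ eC C := hc ▸ dvd_pow_self q hc0.ne'
    have hnr : oneG G ∉ Set.range ν := not_range_of_deg hD (by rw [deg_oneG]; omega)
    have hm : oneG G ∈ ordSet C ν := mem_ordSet.2 ⟨lies_oneG, hnr⟩
    have hrel := relation hD
    rw [← Finset.add_sum_erase _ _ hm, bI_oneG' hM hD hnr, deg_oneG] at hrel
    have hq2 : q = 2 := by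
      have h1 : (q : ℤ) ∣ -1 - (deg (ν 1 : G → ℂ) : ℤ) := by
        rw [show -1 - (deg (ν 1 : G → ℂ) : ℤ) =
          ∑ χ ∈ (ordSet C ν).erase (oneG G), C.bI χ C.oneV 1 * (deg (χ : G → ℂ) : ℤ) by
            push_cast at hrel
            linarith]
        exact Finset.dvd_sum fun χ hχ => (Int.natCast_dvd_natCast.2 (dvd_ord_deg hO hM hD
          (Finset.mem_of_mem_erase hχ) (Finset.ne_of_mem_erase hχ))).mul_left _
      have h2 : q ∣ p + 1 := by
        have h4 : (q : ℤ) ∣ ((eC C : ℕ) : ℤ) := Int.natCast_dvd_natCast.2 hqe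
        have h3 := dvd_sub h4 h1
        refine Int.natCast_dvd_natCast.1 ?_
        rw [show ((p + 1 : ℕ) : ℤ) = ((eC C : ℕ) : ℤ) - (-1 - (deg (ν 1 : G → ℂ) : ℤ)) by omega]
        exact h3
      have h3 : q ∣ p - 1 := hqe.trans (eC_dvd C)
      have h4 := Nat.dvd_sub h2 h3
      rw [show p + 1 - (p - 1) = 2 by omega] at h4
      exact (Nat.prime_dvd_prime_iff_eq hO.prime Nat.prime_two).1 h4
    subst hq2
    refine ⟨c, rfl, rfl, hM, hO.core, hD, hV, hd, h2e, hc, hc0, ?_, hidx, hcard,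
      fun χ hχ hne => dvd_ord_deg hO hM hD hχ hne, hf⟩
    rw [← Nat.not_even_iff_odd, even_iff_two_dvd]
    exact hxq

end Cfsg.Lib.Blocks.BrauerTuan
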