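import Mathlib
import Cfsg.Agent.Blocks.BrauerTuan.Setup
import Cfsg.Agent.Blocks.BrauerTuan.Arith
import Cfsg.Agent.Blocks.DegreeSubTwo.Reduction

/-!
# The bound on the two-part
-/

set_option autoImplicit false
set_option linter.unusedSectionVars false

namespace Cfsg.Lib.Blocks.BrauerTuan

open Cfsg.Lib.Chars SmallOrder SylowCount
open scoped ComplexConjugate _root_.Classical

universe u

variable {G : Type u} [Group G] [Fintype G] {p : ℕ} [Fact p.Prime] {M : Ideal AlgInt}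
  {C : Cyc G p} {ν : (ZMod p)ˣ → IrrCharacter G} {b c : ℕ}

/-- The indicator of the even integers modulo `2 ^ b`. -/
lemma dvd_indicator (b : ℕ) (w : ℤ) :
    (2 : ℤ) ^ b ∣ (1 - w ^ (2 ^ b)) - (if Even w then 1 else 0) := by
  split_ifs with h
  · rw [sub_sub_cancel_left, dvd_neg]
    exact (pow_dvd_pow_of_dvd (even_iff_two_dvd.1 h) b).trans
      (pow_dvd_pow w Nat.lt_two_pow_self.le)
  · rw [sub_zero, dvd_sub_comm]
    induction b with
    | zero => simp
    | succ b ih =>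
      rw [pow_succ 2 b, pow_succ (2 : ℕ) b, pow_mul,
        show (w ^ 2 ^ b) ^ 2 - 1 = (w ^ 2 ^ b - 1) * (w ^ 2 ^ b + 1) by ring]
      refine mul_dvd_mul ih ?_
      rw [← even_iff_two_dvd]
      exact ((Int.not_even_iff_odd.1 h).pow).add_one

namespace Two

variable (h : Two M C ν b c)
include h

/-- The ordinary characters besides the principal one. -/
noncomputable def rest (_h : Two M C ν b c) : Finset (IrrCharacter G) :=
  (ordSet C ν).erase (oneG G)

theorem two_le_eC : 2 ≤ eC C := by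
  rw [h.eC_eq]
  exact Nat.le_self_pow h.c_pos.ne' 2

theorem oneG_mem : oneG G ∈ ordSet C ν := by
  refine mem_ordSet.2 ⟨lies_oneG, not_range_of_deg h.data ?_⟩
  rw [deg_oneG]
  have := h.deg_add
  have := h.two_mul
  have := h.two_le_eC
  omega

theorem rest_card : (rest h).card + 1 = eC C := by
  rw [rest, Finset.card_erase_of_mem h.oneG_mem, card_ordSet h.data]
  have := h.two_le_eC
  omega

theorem relation' : ∑ χ ∈ rest h, C.bI χ C.oneV 1 * (deg (χ : G → ℂ) : ℤ) =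
    -((deg (ν 1 : G → ℂ) : ℤ) + 1) := by
  have hrel := relation h.data
  rw [← Finset.add_sum_erase _ _ h.oneG_mem, bI_oneG' h.modular h.data (mem_ordSet.1 h.oneG_mem).2,
    deg_oneG] at hrel
  push_cast at hrel
  rw [rest]
  linarith

theorem rest_data {χ : IrrCharacter G} (hχ : χ ∈ rest h) :
    (C.bI χ C.oneV 1 = 1 ∨ C.bI χ C.oneV 1 = -1) ∧
      (p : ℤ) ∣ (deg (χ : G → ℂ) : ℤ) - C.bI χ C.oneV 1 ∧
      ∃ i g, 0 < i ∧ Odd g ∧ g ∣ deg (ν 1 : G → ℂ) ∧ deg (χ : G → ℂ) = 2 ^ i * g := by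
  obtain ⟨hm, hne⟩ : χ ∈ ordSet C ν ∧ χ ≠ oneG G :=
    ⟨Finset.mem_of_mem_erase hχ, Finset.ne_of_mem_erase hχ⟩
  obtain ⟨hl, hr⟩ := mem_ordSet.1 hm
  refine ⟨h.data.sign_diff ⟨hl, hr⟩, congr_ord h.modular h.data hr hl, ?_⟩
  have hd := dvd_ord h.modular h.data hr hl
  rw [h.idx_mul] at hd
  obtain ⟨y, g, hy, hg, he⟩ := Nat.dvd_mul.1 hd
  obtain ⟨i, -, rfl⟩ := (Nat.dvd_prime_pow Nat.prime_two).1 hy
  have hodd : Odd g := h.odd.of_dvd_nat hg
  refine ⟨i, g, Nat.pos_of_ne_zero fun e => ?_, hodd, hg, he.symm⟩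
  have h2 := h.two_dvd χ hm hne
  rw [← he, e, pow_zero, one_mul] at h2
  exact Nat.not_even_iff_odd.2 hodd (even_iff_two_dvd.2 h2)

theorem le_deg_rest {χ : IrrCharacter G} (hχ : χ ∈ rest h) : p ≤ deg (χ : G → ℂ) + 1 := by
  obtain ⟨hb, hc, i, g, hi, hodd, -, he⟩ := h.rest_data hχ
  by_contra hlt
  have h1 : 2 ≤ deg (χ : G → ℂ) := by
    have h2 : 2 * 1 ≤ 2 ^ i * g := Nat.mul_le_mul (Nat.le_self_pow hi.ne' 2) hodd.pos
    omega
  obtain ⟨k, hk⟩ := hc
  rcases lt_trichotomy k 0 with hk0 | hk0 | hk0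
  · have : (p : ℤ) * k ≤ (p : ℤ) * (-1) := mul_le_mul_of_nonneg_left (by omega) (by omega)
    omega
  · subst hk0
    omega
  · have : (p : ℤ) * 1 ≤ (p : ℤ) * k := mul_le_mul_of_nonneg_left (by omega) (by omega)
    omega

/-- The prime is a Fermat prime. -/
theorem fermat : ∃ L, 2 ≤ L ∧ p = 2 ^ L + 1 ∧
    ((c = 1 ∧ ∃ χ, rest h = {χ} ∧ C.bI χ C.oneV 1 = -1 ∧ deg (χ : G → ℂ) = 2 ^ L) ∨
      (2 ≤ c ∧ L = c + 1)) := by
  have hc := h.c_pos
  have hd := h.deg_add
  have h2 := h.two_mul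
  have he := h.eC_eq
  have hrel := h.relation'
  rcases Nat.lt_or_ge c 2 with hlt | hge
  · obtain rfl : c = 1 := by omega
    rw [pow_one] at he
    obtain ⟨χ, hχ⟩ : ∃ χ, rest h = {χ} := Finset.card_eq_one.1 (by have := h.rest_card; omega)
    rw [hχ, Finset.sum_singleton] at hrel
    obtain ⟨hb, -, i, g, hi, hodd, hg, hx⟩ := h.rest_data (χ := χ) (hχ ▸ Finset.mem_singleton_self χ)
    rcases hb with hb | hb
    · rw [hb, one_mul] at hrel
      omega
    rw [hb, neg_one_mul, neg_inj] at hrel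
    have hx' : deg (χ : G → ℂ) = p - 1 := by omega
    have hg1 : g = 1 := by
      have h3 : g ∣ p - 1 := by
        rw [← hx', hx]
        exact dvd_mul_left _ _
      have h4 := Nat.dvd_sub h3 hg
      rw [show p - 1 - deg (ν 1 : G → ℂ) = 1 by omega] at h4
      exact Nat.dvd_one.1 h4
    rw [hg1, mul_one] at hx
    refine ⟨i, ?_, by omega, Or.inl ⟨rfl, χ, hχ, hb, hx⟩⟩
    by_contra hi2
    obtain rfl : i = 1 := by omega
    rw [pow_one] at hx
    omega
  · obtain ⟨k, hk⟩ := eC_dvd C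
    have h4 : 4 ∣ eC C := by
      rw [he]
      exact (show (4 : ℕ) = 2 ^ 2 by norm_num) ▸ pow_dvd_pow 2 hge
    obtain ⟨e', he'⟩ := h4
    have hp1 : ∃ k', p = 4 * k' + 1 := ⟨e' * k, by
      have := (Fact.out : p.Prime).two_le
      rw [he', Nat.mul_assoc 4 e' k] at hk
      omega⟩
    obtain ⟨χ, hχ, hn4⟩ : ∃ χ ∈ rest h, ¬ 4 ∣ deg (χ : G → ℂ) := by
      by_contra hall
      push Not at hall
      have h5 : (4 : ℤ) ∣ ∑ χ ∈ rest h, C.bI χ C.oneV 1 * (deg (χ : G → ℂ) : ℤ) :=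
        Finset.dvd_sum fun χ hχ => (Int.natCast_dvd_natCast.2 (hall χ hχ)).mul_left _
      rw [hrel] at h5
      obtain ⟨k', hk'⟩ := hp1
      omega
    obtain ⟨hb, hcg, i, g, hi, hodd, hg, hx⟩ := h.rest_data hχ
    obtain rfl : i = 1 := by
      by_contra hne
      refine hn4 ?_
      rw [hx]
      exact Dvd.dvd.mul_right ((show (4 : ℕ) = 2 ^ 2 by norm_num) ▸ pow_dvd_pow 2 (by omega)) _
    rw [pow_one] at hx
    have hle := h.le_deg_rest hχ
    have hgd : g = deg (ν 1 : G → ℂ) := by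
      obtain ⟨j, hj⟩ := hg
      rcases Nat.lt_or_ge j 2 with hj2 | hj2
      · rcases Nat.eq_zero_or_pos j with hj0 | hj0
        · rw [hj0, mul_zero] at hj
          omega
        · rw [show j = 1 by omega, mul_one] at hj
          exact hj.symm
      · exfalso
        have hjo : Odd j := h.odd.of_dvd_nat ⟨g, by rw [hj, mul_comm]⟩
        obtain ⟨a, rfl⟩ := hjo
        have : g * 3 ≤ g * (2 * a + 1) := Nat.mul_le_mul_left _ (by omega)
        omega
    have he2 : 2 * eC C + 1 = p := by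
      have h2e := h.two_le_eC
      obtain ⟨j, hj⟩ := hcg
      rw [hx, hgd] at hj
      push_cast at hj
      rcases lt_trichotomy j 1 with hj0 | hj0 | hj0
      · have : (p : ℤ) * j ≤ (p : ℤ) * 0 := mul_le_mul_of_nonneg_left (by omega) (by omega)
        omega
      · subst hj0
        rcases hb with hb | hb <;> rw [hb] at hj <;> omega
      · have : (p : ℤ) * 2 ≤ (p : ℤ) * j := mul_le_mul_of_nonneg_left (by omega) (by omega)
        omega
    refine ⟨c + 1, by omega, ?_, Or.inr ⟨hge, rfl⟩⟩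
    rw [pow_succ, ← he]
    omega

theorem lies_of_ne_zero (χ : IrrCharacter G) (hχ : (χ : G → ℂ) C.y ≠ 0) : C.Lies χ C.oneV := by
  obtain ⟨P, hP⟩ := h.core.sylow
  have hv : ∀ v : C.V, v = 1 := fun v => (Nat.card_eq_one_iff_unique.1 h.V_one).1.elim v 1
  have hone : ∀ θ : IrrCharacter C.V, θ = C.oneV := fun θ => by
    refine Subtype.ext (funext fun v => ?_)
    rw [hv v, irr_deg_one_of_comm (fun a b => by rw [hv a, hv b]) θ.2]
    rfl
  by_contra hl
  exact hχ (C.apply_singular_of_forall_not_lies (fun θ => hone θ ▸ hl) P hP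
    (dvd_of_eq C.order.symm))

theorem sum_block {R : Type*} [AddCommMonoid R] (f : IrrCharacter G → R)
    (hf : ∀ χ, ¬ C.Lies χ C.oneV → f χ = 0) :
    ∑ χ, f χ = f (oneG G) + ∑ χ ∈ rest h, f χ + ∑ χ ∈ Finset.univ.image ν, f χ := by
  rw [rest, Finset.add_sum_erase _ _ h.oneG_mem, ← Finset.sum_union (Finset.disjoint_left.2
    fun χ h1 h2 => by
      obtain ⟨u, -, hu⟩ := Finset.mem_image.1 h2
      exact (mem_ordSet.1 h1).2 ⟨u, hu⟩)]
  refine (Finset.sum_subset (Finset.subset_univ _) fun χ _ hχ => hf χ fun hl => hχ ?_).symm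
  rw [Finset.mem_union]
  by_cases hr : χ ∈ Set.range ν
  · obtain ⟨u, rfl⟩ := hr
    exact Or.inr (Finset.mem_image_of_mem _ (Finset.mem_univ _))
  · exact Or.inl (mem_ordSet.2 ⟨hl, hr⟩)

theorem apply_y {χ : IrrCharacter G} (hχ : χ ∈ rest h) :
    (χ : G → ℂ) C.y = (C.bI χ C.oneV 1 : ℂ) := by
  obtain ⟨hl, hr⟩ := mem_ordSet.1 (Finset.mem_of_mem_erase hχ)
  rw [← C.yP_one]
  exact apply_yP_ord h.modular h.data hr hl one_ne_zero

theorem index_sylow (S : Sylow 2 G) : Nat.card (S : Subgroup G) = 2 ^ b ∧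
    (S : Subgroup G).index = p * deg (ν 1 : G → ℂ) := by
  have hp2 : ¬ 2 ∣ p * deg (ν 1 : G → ℂ) := by
    rw [Nat.prime_two.dvd_mul]
    rintro (h1 | h1)
    · have := (Nat.prime_dvd_prime_iff_eq Nat.prime_two (Fact.out : p.Prime)).1 h1
      have := h.two_mul
      have := h.two_le_eC
      omega
    · exact Nat.not_even_iff_odd.2 h.odd (even_iff_two_dvd.2 h1)
  have : Fact (Nat.Prime 2) := ⟨Nat.prime_two⟩
  have h1 : Nat.card (S : Subgroup G) = 2 ^ b := by
    rw [S.card_eq_multiplicity, h.card, mul_right_comm,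
      Nat.factorization_mul (fun e => hp2 (by rw [e]; exact dvd_zero 2)) (pow_ne_zero b two_ne_zero),
      Finsupp.add_apply,
      Nat.factorization_eq_zero_of_not_dvd hp2, Nat.Prime.factorization_pow Nat.prime_two,
      Finsupp.single_eq_same, zero_add]
  refine ⟨h1, ?_⟩
  have h2 := (S : Subgroup G).card_mul_index
  rw [h1, h.card] at h2
  exact Nat.eq_of_mul_eq_mul_left (Nat.two_pow_pos b) (by rw [h2]; ring)

/-- An involution in a class of odd size. -/
theorem exists_involution (hb : 0 < b) :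
    ∃ z : G, z * z = 1 ∧ z ≠ 1 ∧ Odd (Nat.card {x : G // IsConj z x}) := by
  have : Fact (Nat.Prime 2) := ⟨Nat.prime_two⟩
  obtain ⟨S⟩ : Nonempty (Sylow 2 G) := inferInstance
  obtain ⟨hc, hi⟩ := h.index_sylow S
  have : Nontrivial (S : Subgroup G) := Finite.one_lt_card_iff_nontrivial.1
    (by rw [hc]; exact Nat.one_lt_two_pow hb.ne')
  have hnt := S.2.center_nontrivial
  obtain ⟨n, hn⟩ := IsPGroup.iff_card.1 (S.2.to_subgroup (Subgroup.center (S : Subgroup G)))
  have hdvd : 2 ∣ Nat.card (Subgroup.center (S : Subgroup G)) := by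
    rw [hn]
    refine dvd_pow_self 2 fun e => ?_
    rw [e, pow_zero] at hn
    have := Finite.one_lt_card_iff_nontrivial.2 hnt
    omega
  obtain ⟨w, hw⟩ := exists_prime_orderOf_dvd_card' 2 hdvd
  set z : G := ((w : (S : Subgroup G)) : G) with hz
  have ho : orderOf z = 2 := by rw [hz, Subgroup.orderOf_coe, Subgroup.orderOf_coe, hw]
  refine ⟨z, by rw [← pow_two, ← ho, pow_orderOf_eq_one], fun e => by
    rw [e, orderOf_one] at ho
    omega, ?_⟩
  have hle : (S : Subgroup G) ≤ Subgroup.centralizer ({z} : Set G) := fun s hs => by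
    rw [Subgroup.mem_centralizer_singleton_iff]
    exact congrArg Subtype.val (Subgroup.mem_center_iff.1 w.2 ⟨s, hs⟩)
  rw [card_isConj]
  refine Odd.of_dvd_nat ?_ (Subgroup.index_dvd_of_le hle)
  rw [hi]
  refine Odd.mul ((Fact.out : p.Prime).odd_of_ne_two ?_) h.odd
  have := h.two_mul
  have := h.two_le_eC
  omega

/-- Twice the exponent of the Fermat prime exceeds the exponent of the order. -/
theorem lt_two_mul {L : ℕ} (hL2 : 2 ≤ L) (hp : p = 2 ^ L + 1)
    (hcase : (c = 1 ∧ ∃ χ, rest h = {χ} ∧ C.bI χ C.oneV 1 = -1 ∧ deg (χ : G → ℂ) = 2 ^ L) ∨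
      (2 ≤ c ∧ L = c + 1)) : b < 2 * L := by
  by_contra hb
  obtain ⟨z, hzz, hz1, hK⟩ := h.exists_involution (by omega)
  set K := Nat.card {x : G // IsConj z x} with hKdef
  have hx0 := deg_irr_pos (ν 1)
  choose w m hm hKm hω using fun χ : IrrCharacter G => exists_int_central χ hzz
  -- the principal character
  have hw1 : w (oneG G) = (K : ℤ) := by
    have h1 := hω (oneG G)
    rw [show (oneG G : G → ℂ) z = 1 from rfl, show (oneG G : G → ℂ) 1 = 1 from rfl, mul_one,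
      div_one] at h1
    exact_mod_cast h1.symm
  -- the exceptional characters
  have hreg : ¬ p ∣ orderOf z := fun hd => by
    have h2 : orderOf z ∣ 2 := orderOf_dvd_of_pow_eq_one (by rw [pow_two, hzz])
    have := Nat.le_of_dvd Nat.zero_lt_two (hd.trans h2)
    have := h.two_mul
    have := h.two_le_eC
    omega
  have hwν : ∀ χ ∈ Finset.univ.image ν, w χ = w (ν 1) := fun χ hχ => by
    obtain ⟨u, -, rfl⟩ := Finset.mem_image.1 hχ
    have h1 := hω (ν u)
    rw [apply_exc_regular h.data u hreg, irr_apply_one_eq_deg, deg_exc h.data,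
      ← irr_apply_one_eq_deg, hω (ν 1)] at h1
    exact (Int.cast_injective h1).symm
  -- the congruences
  have hk : ∀ k : ℕ, (2 : ℤ) ^ b ∣ (K : ℤ) ^ k +
      ∑ χ ∈ rest h, C.bI χ C.oneV 1 * (deg (χ : G → ℂ) : ℤ) * w χ ^ k +
        (deg (ν 1 : G → ℂ) : ℤ) * w (ν 1) ^ k := by
    intro k
    obtain ⟨a, ha⟩ := exists_central_sum z k C.y
    rw [h.sum_block _ fun χ hl => by
        rw [show (χ : G → ℂ) C.y = 0 from by_contra fun hne => hl (h.lies_of_ne_zero χ hne),
          mul_zero],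
      Finset.sum_congr (s₁ := rest h) rfl (g := fun χ : IrrCharacter G =>
        (((C.bI χ C.oneV 1 * (deg (χ : G → ℂ) : ℤ) * w χ ^ k : ℤ)) : ℂ)) (fun χ hχ => by
          rw [hω χ, h.apply_y hχ, irr_apply_one_eq_deg]
          push_cast
          ring),
      Finset.sum_congr (s₁ := Finset.univ.image ν) rfl (g := fun χ : IrrCharacter G =>
        ((deg (ν 1 : G → ℂ) : ℂ) * (w (ν 1) : ℂ) ^ k) * (χ : G → ℂ) C.y) (fun χ hχ => by
          rw [hω χ, hwν χ hχ]
          obtain ⟨u, -, rfl⟩ := Finset.mem_image.1 hχ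
          rw [irr_apply_one_eq_deg, deg_exc h.data]),
      ← Finset.mul_sum, ← C.yP_one, sum_exc h.modular h.data one_ne_zero, hω (oneG G), hw1,
      show (oneG G : G → ℂ) 1 = 1 from rfl, show (oneG G : G → ℂ) (C.yP 1) = 1 from rfl,
      h.card] at ha
    refine ⟨(p : ℤ) * (deg (ν 1 : G → ℂ) : ℤ) * a, ?_⟩
    apply Int.cast_injective (α := ℂ)
    push_cast at ha ⊢
    simp only [neg_neg, one_mul, mul_one] at ha
    linear_combination ha
  set F : ℤ → ℤ := fun v => if Even v then 1 else 0 with hF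
  have hT : (2 : ℤ) ^ b ∣ ∑ χ ∈ rest h, C.bI χ C.oneV 1 * (deg (χ : G → ℂ) : ℤ) * F (w χ) +
      (deg (ν 1 : G → ℂ) : ℤ) * F (w (ν 1)) := by
    have h0 := dvd_sub (hk 0) (hk (2 ^ b))
    have h1 : (2 : ℤ) ^ b ∣ ∑ χ ∈ rest h, C.bI χ C.oneV 1 * (deg (χ : G → ℂ) : ℤ) *
        ((1 - w χ ^ (2 ^ b)) - F (w χ)) :=
      Finset.dvd_sum fun χ _ => (dvd_indicator b _).mul_left _
    have h2 : (2 : ℤ) ^ b ∣ (deg (ν 1 : G → ℂ) : ℤ) * ((1 - w (ν 1) ^ (2 ^ b)) - F (w (ν 1))) :=
      (dvd_indicator b _).mul_left _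
    have h3 : (2 : ℤ) ^ b ∣ (1 - (K : ℤ) ^ (2 ^ b)) - F (K : ℤ) := dvd_indicator b _
    have hFK : F (K : ℤ) = 0 := by
      rw [hF]
      exact if_neg (by rw [Int.even_coe_nat]; exact Nat.not_even_iff_odd.2 hK)
    rw [hFK, sub_zero] at h3
    have h4 := dvd_sub (dvd_sub (dvd_sub h0 h3) h1) h2
    have e : ∑ χ ∈ rest h, C.bI χ C.oneV 1 * (deg (χ : G → ℂ) : ℤ) * F (w χ) +
        (deg (ν 1 : G → ℂ) : ℤ) * F (w (ν 1)) =
        ((K : ℤ) ^ 0 + ∑ χ ∈ rest h, C.bI χ C.oneV 1 * (deg (χ : G → ℂ) : ℤ) * w χ ^ 0 +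
            (deg (ν 1 : G → ℂ) : ℤ) * w (ν 1) ^ 0 -
          ((K : ℤ) ^ (2 ^ b) + ∑ χ ∈ rest h, C.bI χ C.oneV 1 * (deg (χ : G → ℂ) : ℤ) * w χ ^ (2 ^ b) +
            (deg (ν 1 : G → ℂ) : ℤ) * w (ν 1) ^ (2 ^ b))) - (1 - (K : ℤ) ^ (2 ^ b)) -
          ∑ χ ∈ rest h, C.bI χ C.oneV 1 * (deg (χ : G → ℂ) : ℤ) * ((1 - w χ ^ (2 ^ b)) - F (w χ)) -
          (deg (ν 1 : G → ℂ) : ℤ) * ((1 - w (ν 1) ^ (2 ^ b)) - F (w (ν 1))) := by
      simp only [mul_sub, mul_one, Finset.sum_sub_distrib, pow_zero]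
      ring
    rw [e]
    exact h4
  have h2b : (2 : ℤ) ∣ 2 ^ b := dvd_pow_self 2 (by omega)
  have hν0 : F (w (ν 1)) = 0 := by
    by_contra hne
    have h1 : F (w (ν 1)) = 1 := by
      simp only [hF] at hne ⊢
      split_ifs at hne ⊢
      · rfl
      · exact absurd rfl hne
    rw [h1, mul_one] at hT
    have h2 : (2 : ℤ) ∣ ∑ χ ∈ rest h, C.bI χ C.oneV 1 * (deg (χ : G → ℂ) : ℤ) * F (w χ) :=
      Finset.dvd_sum fun χ hχ => ((Int.natCast_dvd_natCast.2 (h.two_dvd χ (Finset.mem_of_mem_erase hχ)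
        (Finset.ne_of_mem_erase hχ))).mul_left _).mul_right _
    have h3 := (dvd_add_right h2).1 (h2b.trans hT)
    exact Nat.not_even_iff_odd.2 h.odd (even_iff_two_dvd.2 (by exact_mod_cast h3))
  rw [hν0, mul_zero, add_zero] at hT
  -- a character of degree `2 ^ L`
  have hθ : ∀ χ : IrrCharacter G, deg (χ : G → ℂ) = 2 ^ L → F (w χ) = 1 := by
    intro χ hx
    suffices m χ = 0 by
      have h1 := hKm χ
      rw [this, mul_zero, hx] at h1
      have h2 : w χ = 0 := (mul_eq_zero.1 h1.symm).resolve_left (by positivity)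
      simp [hF, h2]
    by_contra hne
    have h1 : (2 : ℤ) ^ L ∣ (K : ℤ) * m χ := ⟨w χ, by rw [hKm χ, hx]; push_cast; rfl⟩
    have hcop : IsCoprime ((2 : ℤ) ^ L) (K : ℤ) := by
      refine IsCoprime.pow_left (Int.isCoprime_iff_gcd_eq_one.2 ?_)
      exact_mod_cast (Nat.coprime_two_left.2 hK)
    have h2 := Int.natAbs_le_of_dvd_ne_zero (hcop.dvd_of_dvd_mul_left h1) hne
    rw [Int.natAbs_pow] at h2
    have h3 : ‖(χ : G → ℂ) z‖ ≤ (deg (χ : G → ℂ) : ℝ) := by
      have := IsCharacter.norm_le (isCharacter_of_irr χ.2) z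
      rwa [irr_apply_one_eq_deg, Complex.natCast_re] at this
    have h4 : ‖(χ : G → ℂ) z‖ = ((m χ).natAbs : ℝ) := by
      rw [hm χ, Complex.norm_intCast, Nat.cast_natAbs]
      simp
    have h5 : ‖(χ : G → ℂ) z‖ = (deg (χ : G → ℂ) : ℝ) := by
      refine le_antisymm h3 ?_
      rw [h4, hx]
      exact_mod_cast h2
    have hχc := isCharacter_of_irr χ.2
    have hker : kerSubgroup (χ : G → ℂ) hχc = ⊥ := h.core.ker_eq_bot hχc fun e => by
      have hlies : C.Lies χ C.oneV := h.lies_of_ne_zero χ (by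
        rw [e, irr_apply_one_eq_deg]
        exact Nat.cast_ne_zero.2 (deg_irr_pos χ).ne')
      by_cases hr : χ ∈ Set.range ν
      · obtain ⟨u, rfl⟩ := hr
        have := h.odd
        rw [deg_exc h.data] at hx
        rw [hx] at this
        exact Nat.not_even_iff_odd.2 this (Nat.even_pow.2 ⟨even_two, by omega⟩)
      · have h6 := apply_yP_ord h.modular h.data hr hlies (one_ne_zero (α := ZMod p))
        rw [C.yP_one, e, irr_apply_one_eq_deg, ← Int.cast_natCast] at h6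
        have h7 := Int.cast_injective h6
        have h8 : (4 : ℕ) ≤ 2 ^ L := le_trans (by norm_num) (Nat.pow_le_pow_right two_pos hL2)
        rcases h.data.sign_diff (χ := χ) ⟨hlies, hr⟩ with e' | e' <;> omega
    refine hz1 (Subgroup.mem_bot.1 (h.core.center_eq_bot ▸
      DegreeSubTwo.mem_center_of_norm hχc (fun g hg => Subgroup.mem_bot.1
        (hker ▸ (mem_kerSubgroup hχc g).2 hg)) h5))
  rcases hcase with ⟨-, χ, hχ, hbI, hx⟩ | ⟨hc2, hLc⟩
  · rw [hχ, Finset.sum_singleton, hθ χ hx, hbI, hx, mul_one, neg_one_mul, dvd_neg] at hT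
    have h1 := (Int.natCast_dvd_natCast.1 (by exact_mod_cast hT) : 2 ^ b ∣ 2 ^ L)
    have := (Nat.pow_dvd_pow_iff_le_right one_lt_two).1 h1
    omega
  have he := h.eC_eq
  have hd := h.deg_add
  have hd2 : deg (ν 1 : G → ℂ) = 2 ^ c + 1 := by
    have hL' : 2 ^ L = 2 * 2 ^ c := by rw [hLc, pow_succ, mul_comm]
    omega
  have hP8 : 8 ≤ 2 ^ L := le_trans (by norm_num) (Nat.pow_le_pow_right two_pos (show 3 ≤ L by omega))
  have hPc : 2 ^ L = 2 * 2 ^ c := by rw [hLc, pow_succ, mul_comm]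
  have hcls : ∀ χ ∈ rest h, (2 : ℕ) ^ (2 * L) ∣ deg (χ : G → ℂ) ∨
      (C.bI χ C.oneV 1 = -1 ∧ deg (χ : G → ℂ) = 2 ^ L) ∨
      (C.bI χ C.oneV 1 = 1 ∧ deg (χ : G → ℂ) = 2 ^ L + 2) ∨
      (C.bI χ C.oneV 1 = -1 ∧ deg (χ : G → ℂ) = 2 ^ L * (2 ^ L + 2)) := by
    intro χ hχ
    obtain ⟨hbI, hcg, i, g, hi, hodd, hg, hx⟩ := h.rest_data hχ
    rcases Nat.lt_or_ge i (2 * L) with hlt | hge
    swap
    · exact Or.inl (hx ▸ Dvd.dvd.mul_right (pow_dvd_pow 2 hge) g)
    have hgle := Nat.le_of_dvd hx0 hg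
    rw [hx, show (p : ℤ) = 2 ^ L + 1 by exact_mod_cast hp] at hcg
    push_cast at hcg
    have hLm : 2 ^ (L - 1) = 2 ^ c := by rw [hLc, Nat.add_sub_cancel]
    rcases classify (by omega) hi hlt (by omega) hodd hbI hcg with
      ⟨rfl, rfl, e⟩ | ⟨rfl, rfl, e⟩ | ⟨rfl, rfl, e⟩
    · exact Or.inr (Or.inl ⟨e, by rw [hx, mul_one]⟩)
    · exact Or.inr (Or.inr (Or.inl ⟨e, by rw [hx, pow_one, hLm, hPc]; ring⟩))
    · exact Or.inr (Or.inr (Or.inr ⟨e, by rw [hx, hLm, pow_succ, hPc]; ring⟩))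
  set P : ℕ := 2 ^ L with hPdef
  set A := (rest h).filter fun χ : IrrCharacter G => deg (χ : G → ℂ) = P with hA
  set B := (rest h).filter fun χ : IrrCharacter G => deg (χ : G → ℂ) = P + 2 ∧ F (w χ) = 1 with hB
  set D := (rest h).filter fun χ : IrrCharacter G => deg (χ : G → ℂ) = P * (P + 2) ∧ F (w χ) = 1 with hD
  have hF01 : ∀ v, F v = 0 ∨ F v = 1 := fun v => by
    simp only [hF]
    split_ifs <;> simp
  have hP2 : 2 ^ (2 * L) = P * P := by rw [hPdef, ← pow_add, _root_.two_mul]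
  have hsub : (2 : ℤ) ^ (2 * L) ∣ -(2 ^ L * (A.card : ℤ)) + (2 ^ L + 2) * (B.card : ℤ) -
      2 ^ L * (2 ^ L + 2) * (D.card : ℤ) := by
    have h1 : ∀ χ ∈ rest h, (2 : ℤ) ^ (2 * L) ∣
        C.bI χ C.oneV 1 * (deg (χ : G → ℂ) : ℤ) * F (w χ) -
          ((if deg (χ : G → ℂ) = P then -(P : ℤ) else 0) +
          (if deg (χ : G → ℂ) = P + 2 ∧ F (w χ) = 1 then ((P : ℤ) + 2) else 0) +
          (if deg (χ : G → ℂ) = P * (P + 2) ∧ F (w χ) = 1 then -((P : ℤ) * ((P : ℤ) + 2)) else 0)) := by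
      intro χ hχ
      have hne : P * (P + 2) ≠ P + 2 ∧ P * (P + 2) ≠ P ∧ P + 2 ≠ P := by
        refine ⟨?_, ?_, by omega⟩ <;>
        · have : 2 * (P + 2) ≤ P * (P + 2) := Nat.mul_le_mul_right _ (by omega)
          omega
      rcases hcls χ hχ with hdv | ⟨e, hx⟩ | ⟨e, hx⟩ | ⟨e, hx⟩
      · rw [if_neg, if_neg, if_neg]
        · simp only [add_zero, sub_zero]
          refine Dvd.dvd.mul_right (Dvd.dvd.mul_left ?_ _) _
          exact_mod_cast Int.natCast_dvd_natCast.2 hdv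
        · rintro ⟨hx, -⟩
          rw [hx, hP2] at hdv
          have := Nat.le_of_dvd (by omega) (Nat.dvd_of_mul_dvd_mul_left (by omega) hdv)
          obtain ⟨k, hk⟩ := Nat.dvd_of_mul_dvd_mul_left (by omega) hdv
          rcases Nat.lt_or_ge k 2 with hk2 | hk2
          · interval_cases k <;> omega
          · have : P * 2 ≤ P * k := Nat.mul_le_mul_left _ hk2
            omega
        · rintro ⟨hx, -⟩
          rw [hx, hP2] at hdv
          have := Nat.le_of_dvd (by omega) hdv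
          have : 2 * P ≤ P * P := Nat.mul_le_mul_right _ (by omega)
          omega
        · intro hx
          rw [hx, hP2] at hdv
          have := Nat.le_of_dvd (by omega) hdv
          have : 2 * P ≤ P * P := Nat.mul_le_mul_right _ (by omega)
          omega
      · rw [if_pos hx, if_neg (fun h' => hne.2.2 (by omega)), if_neg (fun h' => hne.2.1 (h'.1.symm.trans hx)),
          hθ χ hx, e, hx]
        simp
      · rw [if_neg (fun h' : deg (χ : G → ℂ) = P => hne.2.2 (hx.symm.trans h')),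
          if_neg (fun h' : deg (χ : G → ℂ) = P * (P + 2) ∧ F (w χ) = 1 => hne.1 (h'.1.symm.trans hx)),
          e, hx]
        rcases hF01 (w χ) with hf | hf <;> simp [hf]
      · rw [if_neg (fun h' : deg (χ : G → ℂ) = P => hne.2.1 (hx.symm.trans h')),
          if_neg (fun h' : deg (χ : G → ℂ) = P + 2 ∧ F (w χ) = 1 => hne.1 (hx.symm.trans h'.1)),
          e, hx]
        rcases hF01 (w χ) with hf | hf <;> simp [hf]
    have h2 := dvd_sub ((pow_dvd_pow (2 : ℤ) (show 2 * L ≤ b by omega)).trans hT)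
      (Finset.dvd_sum h1)
    rw [Finset.sum_sub_distrib, sub_sub_cancel, Finset.sum_add_distrib, Finset.sum_add_distrib,
      ← Finset.sum_filter, ← Finset.sum_filter, ← Finset.sum_filter, ← hA, ← hB, ← hD,
      Finset.sum_const, Finset.sum_const, Finset.sum_const] at h2
    have hPi : (P : ℤ) = 2 ^ L := by
      rw [hPdef]
      push_cast
      rfl
    simp only [nsmul_eq_mul, hPi] at h2
    have e : -(2 ^ L * (A.card : ℤ)) + (2 ^ L + 2) * (B.card : ℤ) -
        2 ^ L * (2 ^ L + 2) * (D.card : ℤ) = (A.card : ℤ) * -(2 ^ L) +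
          (B.card : ℤ) * (2 ^ L + 2) + (D.card : ℤ) * -(2 ^ L * (2 ^ L + 2)) := by ring
    rw [e]
    exact h2
  have hcount : A.card + B.card + D.card ≤ (rest h).card := by
    have hd1 : Disjoint A B := Finset.disjoint_filter.2 fun χ _ h1 h2 => by omega
    have hd2 : Disjoint (A ∪ B) D := by
      rw [Finset.disjoint_union_left]
      constructor <;> refine Finset.disjoint_filter.2 fun χ _ h1 h2 => ?_
      · have : 2 * (P + 2) ≤ P * (P + 2) := Nat.mul_le_mul_right _ (by omega)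
        omega
      · have : 2 * (P + 2) ≤ P * (P + 2) := Nat.mul_le_mul_right _ (by omega)
        omega
    rw [← Finset.card_union_of_disjoint hd1, ← Finset.card_union_of_disjoint hd2]
    exact Finset.card_le_card (Finset.union_subset (Finset.union_subset (Finset.filter_subset _ _)
      (Finset.filter_subset _ _)) (Finset.filter_subset _ _))
  have hA0 : A.card = 0 := by
    refine count_zero hcount ?_ hsub
    have := h.rest_card
    omega
  -- the permutation character on a Sylow `2`-subgroup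
  have : Fact (Nat.Prime 2) := ⟨Nat.prime_two⟩
  obtain ⟨S⟩ : Nonempty (Sylow 2 G) := inferInstance
  obtain ⟨hSc, hSi⟩ := h.index_sylow S
  choose μ hμ using fun χ : IrrCharacter G =>
    exists_mult_one (S : Subgroup G) (isCharacter_of_irr χ.2)
  have hnc : ∀ s : (S : Subgroup G), ¬ IsConj (s : G) C.y := fun s hs => by
    obtain ⟨a, ha⟩ := isConj_iff.1 hs
    have h1 : orderOf (s : G) = orderOf C.y := by
      rw [← ha]
      exact (MulEquiv.orderOf_eq (MulAut.conj a) (s : G)).symm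
    rw [C.order, Subgroup.orderOf_coe] at h1
    have h2 : p ∣ Nat.card (S : Subgroup G) := h1 ▸ orderOf_dvd_natCard s
    rw [hSc] at h2
    have := (Nat.prime_dvd_prime_iff_eq (Fact.out : p.Prime) Nat.prime_two).1
      ((Fact.out : p.Prime).dvd_of_dvd_pow h2)
    omega
  have hμ1 : μ (oneG G) = 1 := by
    have h1 := hμ (oneG G)
    simp only [show ∀ g : G, (oneG G : G → ℂ) g = 1 from fun _ => rfl, Finset.sum_const,
      Finset.card_univ, ← Nat.card_eq_fintype_card, nsmul_eq_mul] at h1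
    exact_mod_cast (mul_left_cancel₀ (Nat.cast_ne_zero.2 Nat.card_pos.ne') h1).symm
  have hμν : ∀ χ ∈ Finset.univ.image ν, μ χ = μ (ν 1) := fun χ hχ => by
    obtain ⟨u, -, rfl⟩ := Finset.mem_image.1 hχ
    have h1 := hμ (ν u)
    rw [Finset.sum_congr rfl fun (s : (S : Subgroup G)) _ => apply_exc_regular h.data u (g := (s : G))
      (fun hd => by
        have h2 := hd.trans ((Subgroup.orderOf_coe s).dvd.trans (orderOf_dvd_natCard s))
        rw [hSc] at h2
        have := (Nat.prime_dvd_prime_iff_eq (Fact.out : p.Prime) Nat.prime_two).1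
          ((Fact.out : p.Prime).dvd_of_dvd_pow h2)
        omega), hμ (ν 1)] at h1
    exact_mod_cast (mul_left_cancel₀ (Nat.cast_ne_zero.2 Nat.card_pos.ne') h1).symm
  have hsum : (1 : ℤ) + ∑ χ ∈ rest h, (μ χ : ℤ) * C.bI χ C.oneV 1 + (μ (ν 1) : ℤ) = 0 := by
    have h1 := sum_mult_mul (S : Subgroup G) μ hμ hnc
    rw [h.sum_block _ fun χ hl => by
        rw [show (χ : G → ℂ) C.y = 0 from by_contra fun hne => hl (h.lies_of_ne_zero χ hne),
          map_zero, mul_zero],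
      Finset.sum_congr (s₁ := rest h) rfl (g := fun χ : IrrCharacter G =>
        (((μ χ : ℤ) * C.bI χ C.oneV 1 : ℤ) : ℂ)) (fun χ hχ => by
          rw [h.apply_y hχ, map_intCast]
          push_cast
          ring),
      Finset.sum_congr (s₁ := Finset.univ.image ν) rfl (g := fun χ : IrrCharacter G => (μ (ν 1) : ℂ) * conj ((χ : G → ℂ) C.y))
        (fun χ hχ => by rw [hμν χ hχ]),
      ← Finset.mul_sum, ← map_sum, ← C.yP_one, sum_exc h.modular h.data one_ne_zero, hμ1,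
      show (oneG G : G → ℂ) (C.yP 1) = 1 from rfl] at h1
    apply Int.cast_injective (α := ℂ)
    push_cast at h1 ⊢
    simp only [neg_neg, map_one, mul_one] at h1
    linear_combination h1
  obtain ⟨χ, hχ, hneg⟩ : ∃ χ ∈ rest h, (μ χ : ℤ) * C.bI χ C.oneV 1 < 0 := by
    by_contra hall
    push Not at hall
    have := Finset.sum_nonneg hall
    omega
  have hbI : C.bI χ C.oneV 1 = -1 := by
    rcases (h.rest_data hχ).1 with e | e
    · rw [e, mul_one] at hneg
      omega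
    · exact e
  have hlt : deg (χ : G → ℂ) < p * deg (ν 1 : G → ℂ) := by
    have h1 := sum_mult_deg (S : Subgroup G) μ hμ
    rw [hSi] at h1
    have h2 : μ (oneG G) * deg (oneG G : G → ℂ) + μ χ * deg (χ : G → ℂ) ≤
        ∑ ψ : IrrCharacter G, μ ψ * deg (ψ : G → ℂ) := by
      rw [← Finset.sum_pair (f := fun ψ : IrrCharacter G => μ ψ * deg (ψ : G → ℂ))
        (Finset.ne_of_mem_erase hχ).symm]
      exact Finset.sum_le_sum_of_subset (Finset.subset_univ _)
    rw [h1, hμ1, deg_oneG] at h2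
    have : deg (χ : G → ℂ) ≤ μ χ * deg (χ : G → ℂ) := by
      refine Nat.le_mul_of_pos_left _ (Nat.pos_of_ne_zero fun e => ?_)
      rw [e] at hneg
      omega
    omega
  have hmem : χ ∈ A := by
    refine Finset.mem_filter.2 ⟨hχ, ?_⟩
    rw [hd2] at hlt
    rcases hcls χ hχ with hdv | ⟨-, hx⟩ | ⟨e, -⟩ | ⟨-, hx⟩
    · exfalso
      have := Nat.le_of_dvd (deg_irr_pos χ) hdv
      rw [hP2] at this
      nlinarith
    · exact hx
    · omega
    · exfalso
      rw [hx] at hlt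
      nlinarith
  rw [Finset.card_eq_zero.1 hA0] at hmem
  exact absurd hmem (Finset.notMem_empty χ)

/-- The two-part of the order is `-1` modulo `p`. -/
theorem dvd_pow_add_one : p ∣ 2 ^ b + 1 := by
  have hpr := (Fact.out : p.Prime)
  obtain ⟨n, -, hn⟩ := h.core.exists_idx
  have h1 := congrArg (Nat.cast (R := ZMod p)) h.idx_mul
  have h2 := congrArg (Nat.cast (R := ZMod p)) h.deg_add
  rw [hn] at h1
  push_cast at h1 h2
  rw [ZMod.natCast_self] at h1 h2
  have h3 : (((2 ^ b + 1) * eC C : ℕ) : ZMod p) = 0 := by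
    push_cast
    linear_combination h1 + (2 : ZMod p) ^ b * h2
  rw [ZMod.natCast_eq_zero_iff] at h3
  refine (hpr.dvd_mul.1 h3).resolve_right fun h4 => ?_
  have := Nat.le_of_dvd (by have := h.two_le_eC; omega) h4
  have := h.two_mul
  omega

/-- The order is less than `p ^ 3` and `p` is a Fermat prime. -/
theorem small : Nat.card G < p ^ 3 ∧ ∃ L, p = 2 ^ L + 1 := by
  obtain ⟨L, hL, hp, hcase⟩ := h.fermat
  refine ⟨?_, L, hp⟩
  have hb := h.lt_two_mul hL hp hcase
  have hd := h.deg_add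
  have h1 := h.dvd_pow_add_one
  have hLb : L ≤ b := by
    by_contra hlt
    have h2 := Nat.le_of_dvd (Nat.succ_pos _) h1
    have h3 : 2 ^ b < 2 ^ L := Nat.pow_lt_pow_right one_lt_two (not_le.1 hlt)
    omega
  obtain ⟨r, rfl⟩ := Nat.exists_eq_add_of_le hLb
  have h2 : p ∣ 2 ^ r - 1 := by
    have h3 := Nat.dvd_sub (dvd_mul_right p (2 ^ r)) h1
    rwa [show p * 2 ^ r - (2 ^ (L + r) + 1) = 2 ^ r - 1 by
      rw [pow_add, congrArg (· * 2 ^ r) hp]
      simp only [add_mul, one_mul]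
      omega] at h3
  have hr : 2 ^ r = 1 := by
    by_contra hne
    have h3 := Nat.le_of_dvd (by have := Nat.one_le_two_pow (n := r); omega) h2
    have h4 : 2 ^ r < 2 ^ L := Nat.pow_lt_pow_right one_lt_two (by omega)
    have := h.two_mul
    have := h.two_le_eC
    omega
  rw [h.card, pow_add, hr, mul_one, pow_succ, pow_two]
  have hd' : deg (ν 1 : G → ℂ) < p := by
    have := h.two_le_eC
    omega
  exact Nat.mul_lt_mul_of_lt_of_lt (Nat.mul_lt_mul_of_pos_left (by omega) (Fact.out : p.Prime).pos) hd'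

end Two

end Cfsg.Lib.Blocks.BrauerTuan
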