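import Mathlib
import Cfsg.Agent.S0999
import Cfsg.Agent.Blocks.BrauerTuan.TwoPart
import Cfsg.Agent.Classical.Misc.SmallPSL

/-!
# Simple groups of order `p qᵇ g₀` with `g₀ < p - 1`
-/

set_option autoImplicit false
set_option linter.unusedSectionVars false

namespace Cfsg.Lib.Blocks.BrauerTuan

open Cfsg.Lib.Chars SmallOrder SylowCount
open scoped _root_.Classical

universe u

variable {G : Type u} [Group G] [Finite G] [IsSimpleGroup G]

/-- A simple group which is not cyclic is perfect. -/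
theorem perfect_of_simple (hG : ¬ IsCyclic G) : commutator G = ⊤ := by
  rcases (inferInstance : (commutator G).Normal).eq_bot_or_eq_top with h | h
  · refine absurd ?_ hG
    let _ : CommGroup G := { (inferInstance : Group G) with mul_comm := fun a b => ?_ }
    · exact IsSimpleGroup.isCyclic (α := G)
    · have h1 := Subgroup.commutator_mem_commutator (H₁ := (⊤ : Subgroup G)) (H₂ := ⊤)
        (Subgroup.mem_top a) (Subgroup.mem_top b)
      rw [commutator_def] at h
      rw [h, Subgroup.mem_bot, commutatorElement_eq_one_iff_mul_comm] at h1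
      exact h1
  · exact h

/-- The power of `q` in the case of the projective group. -/
lemma psl_arith {p k Q : ℕ} (hk : 0 < k) (hpe : 2 * k + 1 = p)
    (hc : Nat.gcd 2 (p - 1) * (p * Q * k) = p * (p ^ 2 - 1)) : Q = 2 * k + 2 := by
  subst hpe
  rw [show Nat.gcd 2 (2 * k + 1 - 1) = 2 by rw [Nat.add_sub_cancel, Nat.gcd_mul_right_right]] at hc
  refine Nat.eq_of_mul_eq_mul_left (show 0 < 2 * k * (2 * k + 1) by positivity) ?_
  have h1 : (2 * k + 1) ^ 2 - 1 = 2 * k * (2 * k + 2) := by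
    rw [pow_two]
    refine Nat.sub_eq_of_eq_add ?_
    ring
  rw [h1] at hc
  calc 2 * k * (2 * k + 1) * Q = 2 * ((2 * k + 1) * Q * k) := by ring
    _ = _ := by rw [hc]; ring

/-- The theorem of Brauer and Tuan. -/
theorem main (hG : ¬ IsCyclic G) (p q b g₀ : ℕ) (hp : p.Prime) (hq : q.Prime) (hpq : p ≠ q)
    (hG' : Nat.card G = p * q ^ b * g₀) (hg : g₀ < p - 1) :
    (∃ (m : ℕ) (F : Type) (_ : Field F) (_ : Fintype F), Fintype.card F = p ∧
      (p = 2 ^ m + 1 ∨ p = 2 ^ m - 1) ∧
      Nonempty (G ≃* Matrix.ProjectiveSpecialLinearGroup (Fin 2) F)) ∨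
    (∃ (m : ℕ) (F : Type) (_ : Field F) (_ : Fintype F), Fintype.card F = 2 ^ m ∧ p = 2 ^ m + 1 ∧
      3 < p ∧ Nonempty (G ≃* Matrix.ProjectiveSpecialLinearGroup (Fin 2) F)) := by
  have := Fact.mk hp
  have := Fintype.ofFinite G
  have hperf := perfect_of_simple hG
  have hg0 : 0 < g₀ := by
    rcases Nat.eq_zero_or_pos g₀ with h | h
    · rw [h, mul_zero] at hG'
      exact absurd hG' Nat.card_pos.ne'
    · exact h
  have hdiv : p ∣ Nat.card G := ⟨q ^ b * g₀, by rw [hG', mul_assoc]⟩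
  have hsq : ¬ p ^ 2 ∣ Nat.card G := fun h => by
    rw [hG', pow_two, mul_assoc p (q ^ b) g₀] at h
    rcases hp.dvd_mul.1 (Nat.dvd_of_mul_dvd_mul_left hp.pos h) with h1 | h1
    · exact hpq ((Nat.prime_dvd_prime_iff_eq hp hq).1 (hp.dvd_of_dvd_pow h1))
    · have := Nat.le_of_dvd hg0 h1
      omega
  obtain ⟨P⟩ : Nonempty (Sylow p G) := inferInstance
  obtain ⟨C, hC⟩ := exists_cyc hdiv hsq P
  have hcore : Core C := ⟨hperf, ⟨P, hC⟩, fun N hN hne => by
    rw [hN.eq_bot_or_eq_top.resolve_left hne]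
    exact Subgroup.mem_top _⟩
  have hO : Ord C q b g₀ := ⟨hcore, hq, hpq, hG', by omega⟩
  obtain ⟨M, hM⟩ := exists_isPModular hp
  obtain ⟨ν, δ, hD⟩ := C.exists_orbitData hM C.oneV
  rcases reduce hO hM hD with ⟨-, hpe, hge, hdeg, hf⟩ | ⟨c, hδ, hq2, h2⟩
  · have he2 := hcore.two_le_eC
    obtain ⟨σ⟩ := HalfDegree.iso_psl_of_half_degree C.dvd_card C.sq hcore.no_normal_prime
      (isCharacter_of_irr (ν 1).2) hf hdeg hpe he2
    let e : G ≃* Matrix.ProjectiveSpecialLinearGroup (Fin 2) (ZMod p) :=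
      ((QuotientGroup.quotientMulEquivOfEq hcore.center_eq_bot).trans
        QuotientGroup.quotientBot).symm.trans σ
    have hc := Classical.SmallPSL.card_psl (F := ZMod p) (ZMod.card p)
    rw [← Nat.card_congr e.toEquiv, hG', hge] at hc
    have hqb : q ^ b = 2 * eC C + 2 := psl_arith (by omega) hpe hc
    have hq2 : q = 2 := ((Nat.prime_dvd_prime_iff_eq Nat.prime_two hq).1
      (Nat.prime_two.dvd_of_dvd_pow (n := b) (by rw [hqb]; exact ⟨eC C + 1, by ring⟩))).symm
    subst hq2
    exact Or.inl ⟨b, ZMod _, inferInstance, inferInstance, ZMod.card _, Or.inr (by omega), ⟨e⟩⟩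
  · subst hδ hq2
    obtain ⟨hsmall, L, hL⟩ := h2.small
    rcases Cfsg.Agent.S0999.result hG p hp hdiv hsmall with ⟨F, i1, i2, hF, -, he⟩ | h
    · exact Or.inl ⟨L, F, i1, i2, hF, Or.inl hL, he⟩
    · exact Or.inr h

/-- A simple group which is not cyclic has no Sylow `2`-subgroup of order two. -/
theorem not_two_part (hG : ¬ IsCyclic G) (n : ℕ) (hn : Odd n) : Nat.card G ≠ 2 * n := by
  intro h
  have := Fintype.ofFinite G
  have : Fact (Nat.Prime 2) := ⟨Nat.prime_two⟩
  obtain ⟨P⟩ : Nonempty (Sylow 2 G) := inferInstance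
  have hP : Nat.card (P : Subgroup G) = 2 := by
    rw [P.card_eq_multiplicity, h, Nat.factorization_mul two_ne_zero hn.pos.ne', Finsupp.add_apply,
      Nat.Prime.factorization_self Nat.prime_two,
      Nat.factorization_eq_zero_of_not_dvd (Nat.two_dvd_ne_zero.2 (Nat.odd_iff.1 hn)), add_zero,
      pow_one]
  refine not_normalizer_le_centralizer (perfect_of_simple hG) P (fun e => ?_) fun g hg => ?_
  · rw [e, Subgroup.card_bot] at hP
    omega
  · rw [Subgroup.mem_centralizer_iff]
    intro x hx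
    by_cases hx1 : x = 1
    · rw [hx1, mul_one, one_mul]
    have hgx : g * x * g⁻¹ ∈ (P : Subgroup G) := (Subgroup.mem_normalizer_iff.1 hg x).1 hx
    obtain ⟨u, v, huv, huniv⟩ := Nat.card_eq_two_iff.1 hP
    have key : ∀ a b : (P : Subgroup G), a ≠ 1 → b ≠ 1 → a = b := by
      intro a b ha hb
      have hm : ∀ w : (P : Subgroup G), w = u ∨ w = v := fun w => by
        have : w ∈ ({u, v} : Set (P : Subgroup G)) := huniv ▸ Set.mem_univ w
        simpa using this
      rcases hm a with rfl | rfl <;> rcases hm b with rfl | rfl <;> rcases hm 1 with e | e <;>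
        first | rfl | exact absurd e.symm ha | exact absurd e.symm hb
    have := congrArg Subtype.val (key ⟨_, hgx⟩ ⟨x, hx⟩
      (fun e => hx1 (conj_eq_one_iff.1 (congrArg Subtype.val e)))
      (fun e => hx1 (congrArg Subtype.val e)))
    exact (mul_inv_eq_iff_eq_mul.1 this).symm

end Cfsg.Lib.Blocks.BrauerTuan
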