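import Mathlib
import Cfsg.Agent.Blocks.BrauerTuan.Main

/-!
# Simple groups of order `p r qᵇ`
-/

set_option autoImplicit false
set_option linter.unusedSectionVars false

namespace Cfsg.Lib.Blocks.BrauerTuan

open scoped _root_.Classical

universe u

variable {G : Type u} [Group G] [Finite G] [IsSimpleGroup G]

/-- A prime of the form `2 ^ n + 1` with `n` odd is three. -/
lemma eq_three_of_odd {n r : ℕ} (hn : Odd n) (hr : r.Prime) (h : r = 2 ^ n + 1) : r = 3 := by
  refine ((Nat.prime_dvd_prime_iff_eq Nat.prime_three hr).1 ?_).symm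
  rw [h, ← Nat.modEq_zero_iff_dvd, ← ZMod.natCast_eq_natCast_iff]
  push_cast
  rw [show (2 : ZMod 3) = -1 from rfl, hn.neg_one_pow]
  exact neg_add_cancel 1

/-- A prime of the form `2 ^ n - 1` with `n` even is three. -/
lemma eq_three_of_even {n r : ℕ} (hn : Even n) (hr : r.Prime) (h : r + 1 = 2 ^ n) : r = 3 := by
  refine ((Nat.prime_dvd_prime_iff_eq Nat.prime_three hr).1 ?_).symm
  rw [← ZMod.natCast_eq_zero_iff]
  have h1 := congrArg (Nat.cast (R := ZMod 3)) h
  push_cast at h1
  rw [show (2 : ZMod 3) = -1 from rfl, hn.neg_one_pow] at h1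
  linear_combination h1

/-- An odd prime times a power of two. -/
lemma pow_two_mul_cancel {i j r s : ℕ} (hr : Odd r) (hs : Odd s) (h : r * 2 ^ i = s * 2 ^ j) :
    r = s := by
  have key : ∀ {a k : ℕ}, Odd a → (a * 2 ^ k).factorization 2 = k := fun {a k} ha => by
    rw [Nat.factorization_mul ha.pos.ne' (pow_ne_zero _ two_ne_zero), Finsupp.add_apply,
      Nat.factorization_eq_zero_of_not_dvd (Nat.two_dvd_ne_zero.2 (Nat.odd_iff.1 ha)),
      Nat.Prime.factorization_pow Nat.prime_two, Finsupp.single_eq_same, zero_add]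
  have hij : i = j := by rw [← key (k := i) hr, h, key hs]
  subst hij
  exact Nat.eq_of_mul_eq_mul_right (Nat.two_pow_pos i) h

/-- The arithmetic in the family of the linear groups over a prime field. -/
lemma arith_prime {p r q b m : ℕ} (hp : p.Prime) (hr : r.Prime) (hq : q.Prime) (hp5 : 5 ≤ p)
    (hpr : p ≠ r) (hpq : p ≠ q) (hqr : q ≠ r)
    (hc : 2 * (p * r * q ^ b) = p * (p ^ 2 - 1)) (hm : p = 2 ^ m + 1 ∨ p = 2 ^ m - 1) :
    p = 5 ∨ p = 7 := by
  have hc' : 2 * (r * q ^ b) = (p + 1) * (p - 1) := by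
    have h1 : p * (2 * (r * q ^ b)) = p * (p ^ 2 - 1) := by rw [← hc]; ring
    have h2 : p ^ 2 - 1 = (p + 1) * (p - 1) := Nat.sq_sub_sq p 1
    rw [← h2]
    exact Nat.eq_of_mul_eq_mul_left hp.pos h1
  obtain ⟨a, ha⟩ := hp.odd_of_ne_two (by omega)
  have h4 : 4 ∣ r * q ^ b := by
    refine Nat.dvd_of_mul_dvd_mul_left Nat.zero_lt_two ?_
    rw [hc', ha, Nat.add_sub_cancel]
    obtain ⟨t, ht⟩ := Nat.even_mul_succ_self a
    exact ⟨t, by
      have : (2 * a + 1 + 1) * (2 * a) = 4 * (a * (a + 1)) := by ring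
      rw [this, ht]
      ring⟩
  have hq2 : q = 2 := by
    by_contra hne
    have hcop : Nat.Coprime 4 (q ^ b) :=
      Nat.Coprime.pow_right _ (Nat.Coprime.pow_left 2 ((Nat.coprime_primes Nat.prime_two hq).2 (Ne.symm hne)))
    have h5 := hcop.dvd_of_dvd_mul_right h4
    rcases (Nat.dvd_prime hr).1 h5 with e | e
    · omega
    · rw [← e] at hr
      exact absurd hr (by norm_num)
  subst hq2
  have hro : Odd r := hr.odd_of_ne_two (Ne.symm hqr)
  rcases hm with hm | hm
  · obtain ⟨k, rfl⟩ : ∃ k, m = k + 2 := ⟨m - 2, by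
      have : 2 ≤ m := by
        by_contra hlt
        interval_cases m <;> omega
      omega⟩
    rw [hm, Nat.add_sub_cancel] at hc'
    have hr' : r = 2 ^ (k + 1) + 1 := by
      refine pow_two_mul_cancel (i := b + 1) (j := k + 3) hro
        (Even.add_one (Nat.even_pow.2 ⟨even_two, by omega⟩)) ?_
      simp only [pow_succ] at hc' ⊢
      linarith
    rcases Nat.even_or_odd (k + 1) with he | he
    · have h3 := eq_three_of_odd (n := k + 2) (by rw [show k + 2 = k + 1 + 1 from rfl]; exact he.add_one) hp hm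
      omega
    · have h3 := eq_three_of_odd he hr hr'
      have h2k : k + 1 = 1 := by
        by_contra hne
        have := Nat.pow_le_pow_right two_pos (show 2 ≤ k + 1 by omega)
        omega
      left
      rw [hm, show k = 0 by omega]
      rfl
  · obtain ⟨k, rfl⟩ : ∃ k, m = k + 3 := ⟨m - 3, by
      have : 3 ≤ m := by
        by_contra hlt
        interval_cases m <;> omega
      omega⟩
    have h2k : 8 ≤ 2 ^ (k + 3) := le_trans (by norm_num) (Nat.pow_le_pow_right two_pos (show 3 ≤ k + 3 by omega))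
    have hp1 : p + 1 = 2 ^ (k + 3) := by omega
    have hr' : r + 1 = 2 ^ (k + 2) := by
      have h6 : p - 1 = 2 * (2 ^ (k + 2) - 1) := by
        rw [pow_succ] at hp1
        omega
      rw [hp1, h6] at hc'
      have h7 : r = 2 ^ (k + 2) - 1 := by
        refine pow_two_mul_cancel (i := b + 1) (j := k + 4) hro ?_ ?_
        · exact Nat.Even.sub_odd (Nat.one_le_two_pow) (Nat.even_pow.2 ⟨even_two, by omega⟩) odd_one
        · simp only [pow_succ] at hc' ⊢
          linarith
      have := Nat.one_le_two_pow (n := k + 2)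
      omega
    rcases Nat.even_or_odd (k + 2) with he | he
    · have h3 := eq_three_of_even he hr hr'
      have : k + 2 = 2 := by
        by_contra hne
        have := Nat.pow_le_pow_right two_pos (show 3 ≤ k + 2 by omega)
        omega
      right
      rw [show k = 0 by omega] at hp1
      omega
    · have h3 := eq_three_of_even (n := k + 3) (by rw [show k + 3 = k + 2 + 1 from rfl]; exact he.add_one) hp hp1
      omega

/-- The arithmetic in the family over fields of characteristic two. -/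
lemma arith_two {p r q b m : ℕ} (hp : p.Prime) (hr : r.Prime) (hq : q.Prime) (hp3 : 3 < p)
    (hqr : q ≠ r) (hm : p = 2 ^ m + 1)
    (hc : p * r * q ^ b = 2 ^ m * ((2 ^ m) ^ 2 - 1)) : m = 2 := by
  obtain ⟨k, rfl⟩ : ∃ k, m = k + 2 := ⟨m - 2, by
    have : 2 ≤ m := by
      by_contra hlt
      interval_cases m <;> omega
    omega⟩
  have h4 : 4 ≤ 2 ^ (k + 2) := le_trans (by norm_num) (Nat.pow_le_pow_right two_pos (show 2 ≤ k + 2 by omega))
  have hc' : r * q ^ b = 2 ^ (k + 2) * (2 ^ (k + 2) - 1) := by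
    have h2 : (2 ^ (k + 2)) ^ 2 - 1 = p * (2 ^ (k + 2) - 1) := by
      rw [hm]
      exact Nat.sq_sub_sq (2 ^ (k + 2)) 1
    refine Nat.eq_of_mul_eq_mul_left hp.pos ?_
    rw [← mul_assoc, hc, h2]
    ring
  have hdvd : 4 ∣ r * q ^ b := by
    rw [hc', pow_add]
    exact ⟨2 ^ k * (2 ^ k * 2 ^ 2 - 1), by ring⟩
  have hq2 : q = 2 := by
    by_contra hne
    have hcop : Nat.Coprime 4 (q ^ b) :=
      Nat.Coprime.pow_right _ (Nat.Coprime.pow_left 2 ((Nat.coprime_primes Nat.prime_two hq).2 (Ne.symm hne)))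
    rcases (Nat.dvd_prime hr).1 (hcop.dvd_of_dvd_mul_right hdvd) with e | e
    · omega
    · rw [← e] at hr
      exact absurd hr (by norm_num)
  subst hq2
  have hr' : r + 1 = 2 ^ (k + 2) := by
    have h7 : r = 2 ^ (k + 2) - 1 := by
      refine pow_two_mul_cancel (i := b) (j := k + 2) (hr.odd_of_ne_two (Ne.symm hqr)) ?_
        (by rw [hc', mul_comm])
      exact Nat.Even.sub_odd (Nat.one_le_two_pow) (Nat.even_pow.2 ⟨even_two, by omega⟩) odd_one
    omega
  rcases Nat.even_or_odd (k + 2) with he | he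
  · have h3 := eq_three_of_even he hr hr'
    by_contra hne
    have := Nat.pow_le_pow_right two_pos (show 3 ≤ k + 2 by omega)
    omega
  · have := eq_three_of_odd he hp hm
    omega

theorem three_primes_aux (hG : ¬ IsCyclic G) (p q r b : ℕ) (hp : p.Prime) (hq : q.Prime)
    (hr : r.Prime) (hpq : p ≠ q) (hqr : q ≠ r) (hlt : r < p) (hG' : Nat.card G = p * r * q ^ b) :
    (∃ (F : Type) (_ : Field F) (_ : Fintype F), Fintype.card F = 5 ∧
      Nonempty (G ≃* Matrix.ProjectiveSpecialLinearGroup (Fin 2) F)) ∨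
    (∃ (F : Type) (_ : Field F) (_ : Fintype F), Fintype.card F = 7 ∧
      Nonempty (G ≃* Matrix.ProjectiveSpecialLinearGroup (Fin 2) F)) := by
  have hr2 := hr.two_le
  have hlt' : r < p - 1 := by
    by_contra hge
    have hr' : p = r + 1 := by omega
    obtain rfl : r = 2 := by
      by_contra hne
      obtain ⟨a, ha⟩ := hr.odd_of_ne_two hne
      have h2 := hp.eq_one_or_self_of_dvd 2 ⟨a + 1, by omega⟩
      omega
    refine not_two_part hG (p * q ^ b) ?_ (by rw [hG']; ring)
    exact (hp.odd_of_ne_two (by omega)).mul ((hq.odd_of_ne_two hqr).pow)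
  rcases main hG p q b r hp hq hpq (by rw [hG']; ring) hlt' with
    ⟨m, F, i1, i2, hF, hm, ⟨e⟩⟩ | ⟨m, F, i1, i2, hF, hm, hp3, ⟨e⟩⟩
  · have hc := Classical.SmallPSL.card_psl (F := F) hF
    rw [← Nat.card_congr e.toEquiv, hG'] at hc
    have hp5 : 5 ≤ p := by
      have h3 : p ≠ 4 := fun e => by rw [e] at hp; exact absurd hp (by norm_num)
      omega
    obtain ⟨a, ha⟩ := hp.odd_of_ne_two (by omega)
    rw [show Nat.gcd 2 (p - 1) = 2 by rw [ha, Nat.add_sub_cancel, Nat.gcd_mul_right_right]] at hc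
    rcases arith_prime hp hr hq hp5 (by omega) hpq hqr hc hm with h | h
    · exact Or.inl ⟨F, i1, i2, hF.trans h, ⟨e⟩⟩
    · exact Or.inr ⟨F, i1, i2, hF.trans h, ⟨e⟩⟩
  · have hc := Classical.SmallPSL.card_psl (F := F) hF
    rw [← Nat.card_congr e.toEquiv, hG'] at hc
    have hm0 : m ≠ 0 := by rintro rfl; omega
    rw [show Nat.gcd 2 (2 ^ m - 1) = 1 from Nat.coprime_two_left.2
      (Nat.Even.sub_odd Nat.one_le_two_pow (Nat.even_pow.2 ⟨even_two, hm0⟩) odd_one), one_mul] at hc
    obtain rfl := arith_two hp hr hq hp3 hqr hm hc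
    obtain ⟨e4⟩ := Classical.SmallPSL.psl_four (F := F) (by rw [hF]; rfl)
    have : Fact (Nat.Prime 5) := ⟨Nat.prime_five⟩
    obtain ⟨e5⟩ := Classical.SmallPSL.psl_five (F := ZMod 5) (ZMod.card 5)
    exact Or.inl ⟨ZMod 5, inferInstance, inferInstance, ZMod.card 5, ⟨(e.trans e4).trans e5.symm⟩⟩

/-- Simple groups of order `p r qᵇ`. -/
theorem three_primes (hG : ¬ IsCyclic G) (p q r b : ℕ) (hp : p.Prime) (hq : q.Prime) (hr : r.Prime)
    (hpq : p ≠ q) (hpr : p ≠ r) (hqr : q ≠ r) (hG' : Nat.card G = p * r * q ^ b) :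
    (∃ (F : Type) (_ : Field F) (_ : Fintype F), Fintype.card F = 5 ∧
      Nonempty (G ≃* Matrix.ProjectiveSpecialLinearGroup (Fin 2) F)) ∨
    (∃ (F : Type) (_ : Field F) (_ : Fintype F), Fintype.card F = 7 ∧
      Nonempty (G ≃* Matrix.ProjectiveSpecialLinearGroup (Fin 2) F)) := by
  rcases lt_or_gt_of_ne hpr with h | h
  · exact three_primes_aux hG r q p b hr hq hp (Ne.symm hqr) (Ne.symm hpq) h
      (by rw [hG']; ring)
  · exact three_primes_aux hG p q r b hp hq hr hpq hqr h hG'

end Cfsg.Lib.Blocks.BrauerTuan
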